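import Groth.Agent.Lib.AffQuot.StableLocus

/-!
# Comparison with the scheme-theoretic notions of closed orbit and finite stabiliser
-/

universe u

open TensorProduct HopfRep GLin

namespace GrothLib.AffQuot

variable {k : Type u} [Field k] [IsAlgClosed k] {A : Type u} [CommRing A] [HopfAlgebra k A]
  [Algebra.FiniteType k A]
  {R : Type u} [CommRing R] [Algebra k R] [Algebra.FiniteType k R] [Comod k A R] [IsCoactAlg k A R]

local notation "φ[" x "]" => GLin.orbitHom k A x

theorem isClosedOrbit_iff (x : R →ₐ[k] k) :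
    GLin.IsClosedOrbit k A x ↔ ∀ z, Cl k A x z → Orb k A x z := by
  unfold GLin.IsClosedOrbit
  constructor
  · intro hc z hz
    have hmem : (⟨RingHom.ker z, inferInstance⟩ : PrimeSpectrum R) ∈
        closure (Set.range (PrimeSpectrum.comap φ[x].toRingHom)) := by
      rw [PrimeSpectrum.closure_range_comap, PrimeSpectrum.mem_zeroLocus, SetLike.coe_subset_coe]
      exact fun f hf => hz f hf
    rw [hc.closure_eq] at hmem
    obtain ⟨P, hP⟩ := hmem
    obtain ⟨M, hM, hPM⟩ := Ideal.exists_le_maximal P.asIdeal P.isPrime.ne_top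
    obtain ⟨g, rfl⟩ := exists_ker_eq (k := k) M
    refine ⟨g, (eq_of_ker_le fun f hf => ?_).symm⟩
    have : f ∈ P.asIdeal.comap φ[x].toRingHom := (congrArg PrimeSpectrum.asIdeal hP).ge hf
    exact hPM this
  · intro h
    suffices hsub : PrimeSpectrum.zeroLocus ((RingHom.ker φ[x].toRingHom : Ideal R) : Set R) ⊆
        Set.range (PrimeSpectrum.comap φ[x].toRingHom) by
      refine closure_subset_iff_isClosed.1 ?_
      rw [PrimeSpectrum.closure_range_comap]
      exact hsub
    intro p hp
    rw [PrimeSpectrum.mem_zeroLocus, SetLike.coe_subset_coe] at hp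
    rw [PrimeSpectrum.mem_range_comap_iff]
    refine le_antisymm (fun f hf => ?_) Ideal.le_comap_map
    by_contra hfp
    obtain ⟨z, hz, hzf⟩ := exists_point_ne_zero (k := k) hfp
    obtain ⟨g, hg⟩ := h z fun a ha => hz a (hp (RingHom.mem_ker.2 ha))
    refine hzf (show z f = 0 from ?_)
    rw [← hg, AlgHom.comp_apply]
    refine (Ideal.map_le_iff_le_comap (K := RingHom.ker g)).2 (fun a ha => ?_) hf
    rw [Ideal.mem_comap, RingHom.mem_ker]
    exact (AlgHom.congr_fun hg a).trans (hz a ha)

theorem mem_transporter_iff_ker (x : R →ₐ[k] k) (g : A →ₐ[k] k) :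
    g ∈ transporter k A x x ↔ ∀ a ∈ GLin.stabIdeal k A x, g a = 0 := by
  constructor
  · intro hg a ha
    refine (Ideal.map_le_iff_le_comap (K := RingHom.ker g)).2 (fun f hf => ?_) ha
    rw [Ideal.mem_comap, RingHom.mem_ker]
    exact (AlgHom.congr_fun hg f).trans hf
  · intro h
    refine (eq_of_ker_le fun f hf => ?_).symm
    exact h _ (Ideal.mem_map_of_mem φ[x] (RingHom.mem_ker.2 hf))

theorem hasFiniteStab_iff (x : R →ₐ[k] k) :
    GLin.HasFiniteStab k A x ↔ (transporter k A x x).Finite := by
  classical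
  unfold GLin.HasFiniteStab
  let C := A ⧸ GLin.stabIdeal k A x
  constructor
  · intro h
    haveI : IsArtinianRing C := IsArtinianRing.of_finite k C
    haveI : Finite (C →ₐ[k] k) := Finite.of_injective
      (fun G : C →ₐ[k] k => (⟨RingHom.ker G, inferInstance⟩ : MaximalSpectrum C))
      fun G G' e => eq_of_ker_le fun c hc => (congrArg MaximalSpectrum.asIdeal e).le hc
    exact (Set.finite_range fun G : C →ₐ[k] k => G.comp (Ideal.Quotient.mkₐ k (GLin.stabIdeal k A x))).subset
      fun g hg => ⟨Ideal.Quotient.liftₐ _ g ((mem_transporter_iff_ker x g).1 hg), AlgHom.ext fun _ => rfl⟩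
  · intro h
    haveI : Finite (C →ₐ[k] k) := by
      haveI := h.to_subtype
      refine Finite.of_injective (fun G : C →ₐ[k] k =>
        (⟨G.comp (Ideal.Quotient.mkₐ k _), (mem_transporter_iff_ker x _).2 fun a ha => by
          rw [AlgHom.comp_apply, Ideal.Quotient.mkₐ_eq_mk, Ideal.Quotient.eq_zero_iff_mem.2 ha, map_zero]⟩ :
          transporter k A x x)) fun G G' e => Ideal.Quotient.algHom_ext k (congrArg Subtype.val e)
    haveI : IsNoetherianRing C := Algebra.FiniteType.isNoetherianRing k C
    haveI : IsArtinianRing C := by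
      rw [isArtinianRing_iff_krullDimLE_zero, Ring.krullDimLE_zero_iff]
      intro P hP
      obtain ⟨g, rfl⟩ := exists_eq_ker_of_finite (k := k) P (Set.toFinite _)
      infer_instance
    exact (Module.finite_iff_isArtinianRing k C).2 ‹_›

theorem isStablePt_iff (x : R →ₐ[k] k) :
    GLin.IsStablePt k A x ↔ (∀ z, Cl k A x z → Orb k A x z) ∧ (transporter k A x x).Finite := by
  rw [GLin.IsStablePt, isClosedOrbit_iff, hasFiniteStab_iff]

end GrothLib.AffQuot
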