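import Groth.Agent.Lib.AffQuot.Points

/-!
# Fibres over rational points: quasi-finiteness and dimension inequalities
-/

universe u

namespace GrothLib.AffQuot

variable {k : Type u} [Field k] [IsAlgClosed k]
  {A B : Type u} [CommRing A] [Algebra k A] [Algebra.FiniteType k A] [CommRing B] [Algebra k B]

/-- A prime at which only finitely many rational points lie is the kernel of one of them. -/
theorem exists_eq_ker_of_finite (P : Ideal A) [P.IsPrime]
    (h : {g : A →ₐ[k] k | ∀ a ∈ P, g a = 0}.Finite) : ∃ g : A →ₐ[k] k, RingHom.ker g = P := by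
  classical
  have hle : (h.toFinset.inf fun g => RingHom.ker g) ≤ P := by
    intro a ha
    by_contra haP
    obtain ⟨z, hz, hza⟩ := exists_point_ne_zero (k := k) haP
    exact hza (Finset.inf_le (f := fun g : A →ₐ[k] k => RingHom.ker g) (h.mem_toFinset.2 hz) ha)
  obtain ⟨g, hg, hgP⟩ := (Ideal.IsPrime.inf_le' ‹_›).1 hle
  exact ⟨g, le_antisymm hgP fun a ha => (h.mem_toFinset.1 hg) a ha⟩

variable [Algebra B A] [IsScalarTower k B A]

theorem under_ker (g : A →ₐ[k] k) :
    (RingHom.ker g).comap (algebraMap B A) = RingHom.ker (g.comp (IsScalarTower.toAlgHom k B A)) :=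
  rfl

/-- A point with finitely many companions in its fibre is a quasi-finite point. -/
theorem quasiFiniteAt_of_finite [Algebra.FiniteType B A] (g : A →ₐ[k] k)
    (h : {g' : A →ₐ[k] k |
      g'.comp (IsScalarTower.toAlgHom k B A) = g.comp (IsScalarTower.toAlgHom k B A)}.Finite) :
    Algebra.QuasiFiniteAt B (RingHom.ker g) := by
  haveI := ker_isMaximal g
  set q : PrimeSpectrum A := ⟨RingHom.ker g, (ker_isMaximal g).isPrime⟩
  let S := PrimeSpectrum.comap (algebraMap B A) ⁻¹' {PrimeSpectrum.comap (algebraMap B A) q}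
  have hS : ∀ P ∈ S, ∃ g' : A →ₐ[k] k, g'.comp (IsScalarTower.toAlgHom k B A) =
      g.comp (IsScalarTower.toAlgHom k B A) ∧ RingHom.ker g' = P.asIdeal := by
    intro P hP
    have hP' : P.asIdeal.comap (algebraMap B A) = RingHom.ker (g.comp (IsScalarTower.toAlgHom k B A)) :=
      congrArg PrimeSpectrum.asIdeal hP
    have hsub : ∀ g' : A →ₐ[k] k, (∀ a ∈ P.asIdeal, g' a = 0) →
        g'.comp (IsScalarTower.toAlgHom k B A) = g.comp (IsScalarTower.toAlgHom k B A) := fun g' hg' =>
      (eq_of_ker_le fun b hb => hg' (algebraMap B A b) (Ideal.mem_comap.1 (hP'.ge hb))).symm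
    obtain ⟨g', hg'⟩ := exists_eq_ker_of_finite (k := k) P.asIdeal (h.subset fun g' hg' => hsub g' hg')
    exact ⟨g', hsub g' fun a ha => by rwa [← hg'] at ha, hg'⟩
  have hfin : S.Finite := by
    refine Set.Finite.of_finite_image (f := PrimeSpectrum.asIdeal)
      ((h.image fun g' : A →ₐ[k] k => RingHom.ker g').subset ?_) (fun P _ Q _ e => PrimeSpectrum.ext e)
    rintro _ ⟨P, hP, rfl⟩
    obtain ⟨g', h1, h2⟩ := hS P hP
    exact ⟨g', h1, h2⟩
  haveI : Finite S := hfin
  haveI : T1Space S := ⟨fun P => by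
    obtain ⟨g', -, h2⟩ := hS P.1 P.2
    have hc : IsClosed ({P.1} : Set (PrimeSpectrum A)) :=
      (PrimeSpectrum.isClosed_singleton_iff_isMaximal _).2 (h2 ▸ ker_isMaximal g')
    convert hc.preimage continuous_subtype_val using 1
    ext Q
    simp [Subtype.ext_iff]⟩
  exact Algebra.QuasiFiniteAt.of_isOpen_singleton_fiber (R := B) q (isOpen_discrete _)

/-- Near a quasi-finite point all points are quasi-finite. -/
theorem exists_quasiFiniteAt_nhd [Algebra.FiniteType B A] (q : Ideal A) [q.IsPrime]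
    [Algebra.QuasiFiniteAt B q] :
    ∃ r ∉ q, ∀ (q' : Ideal A) [q'.IsPrime], r ∉ q' → Algebra.QuasiFiniteAt B q' := by
  obtain ⟨r, hr, H⟩ := (Algebra.zariskisMainProperty_iff' (R := B) (p := q)).1
    (.of_finiteType_of_weaklyQuasiFiniteAt _)
  exact ⟨r, hr, fun q' _ hr' => Algebra.ZariskisMainProperty.quasiFiniteAt _
    (Algebra.zariskisMainProperty_iff'.2 ⟨r, hr', H⟩)⟩

/-- Finite fibres over all rational points bound the dimension. -/
theorem ringKrullDim_le_of_finite_fibres [Algebra.FiniteType B A]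
    (h : ∀ z : B →ₐ[k] k, {g : A →ₐ[k] k | g.comp (IsScalarTower.toAlgHom k B A) = z}.Finite) :
    ringKrullDim A ≤ ringKrullDim B := by
  have hqf : ∀ P : PrimeSpectrum A, Algebra.QuasiFiniteAt B P.asIdeal := by
    intro P
    obtain ⟨M, hM, hPM⟩ := Ideal.exists_le_maximal P.asIdeal P.isPrime.ne_top
    obtain ⟨g, rfl⟩ := exists_ker_eq (k := k) M
    haveI := quasiFiniteAt_of_finite (B := B) g (h _)
    obtain ⟨r, hr, H⟩ := exists_quasiFiniteAt_nhd (B := B) (RingHom.ker g)
    exact H P.asIdeal fun hr' => hr (hPM hr')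
  refine Order.krullDim_le_of_strictMono (PrimeSpectrum.comap (algebraMap B A)) fun P Q hPQ => ?_
  refine lt_of_le_of_ne (Ideal.comap_mono hPQ.le) fun e => hPQ.ne ?_
  haveI := hqf Q
  exact PrimeSpectrum.ext (Algebra.QuasiFiniteAt.eq_of_le_of_under_eq (R := B) hPQ.le (congrArg PrimeSpectrum.asIdeal e))

omit [Algebra B A] [IsScalarTower k B A] in
/-- A finite type subalgebra of a finite type algebra is not of larger dimension. -/
theorem ringKrullDim_le_of_injective [Algebra.FiniteType k B] (φ : B →ₐ[k] A) (hφ : Function.Injective φ) :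
    ringKrullDim B ≤ ringKrullDim A := by
  refine iSup_le fun l => ?_
  obtain ⟨p, hp, hpl⟩ := Ideal.exists_minimalPrimes_le (J := l.head.asIdeal) (bot_le : (⊥ : Ideal B) ≤ _)
  haveI := hp.1.1
  obtain ⟨q, hq, hqp⟩ := Ideal.exists_comap_eq_of_mem_minimalPrimes_of_injective (f := φ.toRingHom) hφ p hp
  haveI := hq
  let ψ : B ⧸ p →ₐ[k] A ⧸ q := Ideal.quotientMapₐ q φ hqp.ge
  have hψ : Function.Injective ψ := Ideal.quotientMap_injective' (f := φ.toRingHom) (H := hqp.ge) hqp.le
  obtain ⟨a, ha, ha'⟩ := GrothLib.Dim.exists_nat_trdeg_eq_and_ringKrullDim_eq k (B ⧸ p)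
  obtain ⟨b, hb, hb'⟩ := GrothLib.Dim.exists_nat_trdeg_eq_and_ringKrullDim_eq k (A ⧸ q)
  have hab : a ≤ b := by
    have := trdeg_le_of_injective ψ hψ
    rw [ha, hb] at this
    exact_mod_cast this
  let S := PrimeSpectrum.zeroLocus (p : Set B)
  let l' : LTSeries S := ⟨l.length, fun i => ⟨l.toFun i, (hpl.trans (LTSeries.head_le l i) : p ≤ _)⟩, l.step⟩
  calc (l.length : WithBot ℕ∞) = l'.length := rfl
    _ ≤ Order.krullDim S := le_iSup (fun s : LTSeries S => (s.length : WithBot ℕ∞)) l'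
    _ = ringKrullDim (B ⧸ p) := (ringKrullDim_quotient p).symm
    _ ≤ ringKrullDim (A ⧸ q) := by rw [ha', hb']; exact_mod_cast hab
    _ ≤ ringKrullDim A := ringKrullDim_quotient_le q

end GrothLib.AffQuot
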