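import Groth.Agent.Lib.Comod.Reynolds
import Groth.Agent.S18834
import Groth.Prelude.Def_GLin
import Mathlib

/-!
# Hilbert's finiteness theorem for linearly reductive groups
-/

universe u

open TensorProduct HopfRep GLin GrothLib.Comodule MvPolynomial

namespace GrothLib.AffQuot

variable {k : Type u} [Field k] {A : Type u} [CommRing A] [Bialgebra k A]

section Matrix

variable {ι : Type u} [Finite ι]

/-- the linear substitution defined by a matrix -/
noncomputable def substCoact (m : ι → ι → A) : MvPolynomial ι k →ₐ[k] MvPolynomial ι k ⊗[k] A :=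
  letI := Fintype.ofFinite ι
  MvPolynomial.aeval fun i => ∑ j, (X j : MvPolynomial ι k) ⊗ₜ[k] m j i

theorem substCoact_X [Fintype ι] (m : ι → ι → A) (i : ι) :
    substCoact (k := k) m (X i) = ∑ j, (X j : MvPolynomial ι k) ⊗ₜ[k] m j i := by
  rw [substCoact, MvPolynomial.aeval_X]
  exact Finset.sum_congr (Finset.ext fun _ => by simp) fun _ _ => rfl

variable [Fintype ι] [DecidableEq ι]

/-- a matrix satisfying the identities of a representation gives a comodule -/
noncomputable def substComod (m : ι → ι → A)
    (hm : ∀ i j, Coalgebra.comul (R := k) (m j i) = ∑ l, m j l ⊗ₜ[k] m l i)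
    (hm' : ∀ i j, Coalgebra.counit (R := k) (m j i) = if j = i then 1 else 0) :
    Comod k A (MvPolynomial ι k) where
  coact := (substCoact m).toLinearMap
  coassoc := by
    have : ((Algebra.TensorProduct.assoc k k k (MvPolynomial ι k) A A).toAlgHom.comp
        ((Algebra.TensorProduct.map (substCoact (k := k) m) (AlgHom.id k A)).comp (substCoact (k := k) m))) =
        (Algebra.TensorProduct.map (AlgHom.id k (MvPolynomial ι k)) (Bialgebra.comulAlgHom k A)).comp
          (substCoact m) := MvPolynomial.algHom_ext fun i => by
      simp only [AlgHom.comp_apply, substCoact_X, map_sum, Algebra.TensorProduct.map_tmul, AlgHom.id_apply,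
        Bialgebra.comulAlgHom_apply, hm, TensorProduct.sum_tmul, TensorProduct.tmul_sum]
      rw [Finset.sum_comm]
      exact Finset.sum_congr rfl fun _ _ => Finset.sum_congr rfl fun _ _ => rfl
    refine LinearMap.ext fun p => ?_
    exact AlgHom.congr_fun this p
  counit_comp := by
    have : (Algebra.TensorProduct.map (AlgHom.id k (MvPolynomial ι k)) (Bialgebra.counitAlgHom k A)).comp
        (substCoact m) = (Algebra.TensorProduct.includeLeft : MvPolynomial ι k →ₐ[k] _) :=
      MvPolynomial.algHom_ext fun i => by
        simp only [AlgHom.comp_apply, substCoact_X, map_sum, Algebra.TensorProduct.map_tmul, AlgHom.id_apply,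
          Bialgebra.counitAlgHom_apply, hm']
        rw [Finset.sum_eq_single i (fun b _ hb => by rw [if_neg hb, TensorProduct.tmul_zero]) (fun h => absurd (Finset.mem_univ i) h), if_pos rfl]
        rfl
    exact LinearMap.ext fun p => AlgHom.congr_fun this p

end Matrix

section Linear

variable {ι : Type*} [Finite ι] [Comod k A (MvPolynomial ι k)] [IsCoactAlg k A (MvPolynomial ι k)]

local notation "P" => MvPolynomial ι k

variable (hlin : ∀ i : ι, Comod.coact (k := k) (A := A) (X i : MvPolynomial ι k) ∈
  LinearMap.range ((homogeneousSubmodule ι k 1).subtype.rTensor A))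

include hlin in
theorem isSubcomod_homogeneous (d : ℕ) :
    IsSubcomod (k := k) (A := A) (homogeneousSubmodule ι k d) := by
  let T : ℕ → Submodule k (P ⊗[k] A) := fun d =>
    LinearMap.range ((homogeneousSubmodule ι k d).subtype.rTensor A)
  have hmul : ∀ a b x y, x ∈ T a → y ∈ T b → x * y ∈ T (a + b) := by
    intro a b x y ⟨s, hs⟩ ⟨t, ht⟩
    subst hs ht
    induction s using TensorProduct.induction_on with
    | zero => simp
    | tmul p q =>
      induction t using TensorProduct.induction_on with
      | zero => simp
      | tmul p' q' =>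
        exact ⟨(⟨(p : P) * p', homogeneousSubmodule_mul a b (Submodule.mul_mem_mul p.2 p'.2)⟩ :
          homogeneousSubmodule ι k (a + b)) ⊗ₜ[k] (q * q'), by simp⟩
      | add u v hu hv => rw [map_add, mul_add]; exact add_mem hu hv
    | add u v hu hv => rw [map_add, add_mul]; exact add_mem hu hv
  have hmono : ∀ (e : ι →₀ ℕ), GLin.coactAlgHom k A P (monomial e 1) ∈ T e.degree := by
    intro e
    induction e using Finsupp.induction with
    | zero =>
      rw [monomial_zero', map_one, map_one, map_zero]
      exact ⟨(⟨1, isHomogeneous_one ι k⟩ : homogeneousSubmodule ι k 0) ⊗ₜ[k] (1 : A), rfl⟩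
    | single_add i c e _ _ ih =>
      rw [monomial_single_add, map_mul, map_pow, map_add, Finsupp.degree_single]
      refine hmul _ _ _ _ ?_ ih
      clear ih
      induction c with
      | zero =>
        rw [pow_zero]
        exact ⟨(⟨1, isHomogeneous_one ι k⟩ : homogeneousSubmodule ι k 0) ⊗ₜ[k] (1 : A), rfl⟩
      | succ c ihc =>
        rcases Nat.eq_zero_or_pos c with rfl | hc
        · rw [zero_add, pow_one]; exact hlin i
        · rw [pow_succ]; exact hmul _ _ _ _ (ihc hc.ne') (hlin i)
  intro p hp
  rw [p.as_sum, map_sum]
  refine Submodule.sum_mem _ fun e he => ?_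
  have hd : e.degree = d := by
    by_contra hne
    exact mem_support_iff.1 he (hp.coeff_eq_zero hne)
  rw [show monomial e (coeff e p) = (coeff e p) • monomial e (1 : k) by rw [smul_monomial, smul_eq_mul, mul_one], map_smul]
  exact Submodule.smul_mem _ _ (hd ▸ hmono e)

include hlin in
theorem isComodHom_homogeneousComponent (d : ℕ) :
    Hoch.IsComodHom A (homogeneousComponent d : P →ₗ[k] P) := by
  refine LinearMap.ext fun p => ?_
  rw [LinearMap.comp_apply, LinearMap.comp_apply]
  conv_lhs => rw [← sum_homogeneousComponent p, map_sum, map_sum]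
  conv_rhs => rw [← sum_homogeneousComponent p, map_sum, map_sum]
  refine Finset.sum_congr rfl fun e _ => ?_
  obtain ⟨w, hw⟩ := isSubcomod_homogeneous hlin e _ (homogeneousComponent_mem e p)
  rw [homogeneousComponent_of_mem (homogeneousComponent_mem e p), ← hw, ← LinearMap.rTensor_comp_apply]
  by_cases hde : d = e
  · subst hde
    rw [if_pos rfl, show homogeneousComponent d ∘ₗ (homogeneousSubmodule ι k d).subtype =
      (homogeneousSubmodule ι k d).subtype from LinearMap.ext fun q => by
        rw [LinearMap.comp_apply, Submodule.coe_subtype, homogeneousComponent_of_mem q.2, if_pos rfl], hw]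
  · rw [if_neg hde, map_zero, show homogeneousComponent d ∘ₗ (homogeneousSubmodule ι k e).subtype = 0 from
      LinearMap.ext fun q => by
        rw [LinearMap.comp_apply, Submodule.coe_subtype, homogeneousComponent_of_mem q.2, if_neg hde]; rfl,
      LinearMap.rTensor_zero, LinearMap.zero_apply]

end Linear

section LinearFG

variable {ι : Type u} [Finite ι] [Comod k A (MvPolynomial ι k)] [IsCoactAlg k A (MvPolynomial ι k)]

local notation "P" => MvPolynomial ι k

variable (hlin : ∀ i : ι, Comod.coact (k := k) (A := A) (X i : MvPolynomial ι k) ∈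
  LinearMap.range ((homogeneousSubmodule ι k 1).subtype.rTensor A))

include hlin in
/-- Hilbert: the invariant polynomials of a linear action are finitely generated. -/
theorem fg_invariants_linear (hG : IsLinearlyReductive k A) : (invariants k A P).FG := by
  classical
  let H : Set P := {f | f ∈ invariants k A P ∧ ∃ d, 0 < d ∧ f.IsHomogeneous d}
  obtain ⟨s, hsH, hs⟩ := (Submodule.fg_span_iff_fg_span_finset_subset H).1
    (IsNoetherian.noetherian (Ideal.span H : Ideal P))
  refine ⟨s, le_antisymm (Algebra.adjoin_le fun f hf => (hsH hf).1) fun f hf => ?_⟩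
  have hcomp : ∀ g ∈ invariants k A P, ∀ d, homogeneousComponent d g ∈ invariants k A P := fun g hg d => by
    change Comod.coact (k := k) (A := A) _ = _
    rw [IsComodHom.apply (isComodHom_homogeneousComponent hlin d), hg, LinearMap.rTensor_tmul]
  suffices main : ∀ d g, g ∈ invariants k A P → g.IsHomogeneous d → g ∈ Algebra.adjoin k (s : Set P) by
    rw [← sum_homogeneousComponent f]
    exact Subalgebra.sum_mem _ fun d _ => main d _ (hcomp f hf d) (homogeneousComponent_mem d f)
  intro d
  induction d using Nat.strong_induction_on with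
  | _ d ih =>
    intro g hg hgd
    rcases Nat.eq_zero_or_pos d with rfl | hd
    · rw [← (homogeneousComponent_of_mem hgd).trans (if_pos rfl), homogeneousComponent_zero]
      exact Subalgebra.algebraMap_mem _ _
    have hmem : g ∈ Submodule.span P (s : Set P) :=
      hs ▸ Submodule.subset_span (show g ∈ H from ⟨hg, d, hd, hgd⟩)
    obtain ⟨c, hc⟩ := (Submodule.mem_span_finset' (R := P) (s := s)).1 hmem
    choose e he0 he using fun a : s => (hsH a.2).2
    have hproj : g = ∑ a : s, (if e a ≤ d then homogeneousComponent (d - e a) (c a) else 0) * (a : P) := by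
      conv_lhs => rw [← (homogeneousComponent_of_mem hgd).trans (if_pos rfl), ← hc, map_sum]
      refine Finset.sum_congr rfl fun a _ => ?_
      letI : GradedAlgebra (homogeneousSubmodule ι k) := MvPolynomial.gradedAlgebra
      have hdec : ∀ (q : P) (i : ℕ), (DirectSum.decompose (homogeneousSubmodule ι k) q i : P) = homogeneousComponent i q :=
        fun q i => decomposition.decompose'_apply q i
      rw [smul_eq_mul, ← hdec]
      split_ifs with hle
      · rw [DirectSum.coe_decompose_mul_of_right_mem_of_le _ (he a) hle, hdec]
      · rw [DirectSum.coe_decompose_mul_of_right_mem_of_not_le _ (he a) hle, zero_mul]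
    have hE : g = ∑ a : s, (if e a ≤ d then Reynolds.reynolds hG (homogeneousComponent (d - e a) (c a)) else 0) * (a : P) := by
      conv_lhs => rw [← Reynolds.reynolds_fixed hG (show g ∈ fixedPts k A P from hg), hproj, map_sum]
      refine Finset.sum_congr rfl fun a _ => ?_
      split_ifs with hle
      · rw [mul_comm, mul_comm _ (a : P)]
        exact Reynolds.reynolds_comm hG (g := LinearMap.mulLeft k (a : P))
          (Groth.Agent.S18834.isComodHom_mulLeft k A P (hsH a.2).1) _
      · rw [zero_mul, map_zero]
    rw [hE]
    refine Subalgebra.sum_mem _ fun a _ => Subalgebra.mul_mem _ ?_ (Algebra.subset_adjoin a.2)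
    split_ifs with hle
    · exact ih _ (by have := he0 a; omega) _ (Reynolds.reynolds_mem hG _)
        (Reynolds.reynolds_mem_sub hG (isSubcomod_homogeneous hlin _) (homogeneousComponent_mem _ _))
    · exact Subalgebra.zero_mem _

end LinearFG

/-- Hilbert: the invariants of a linearly reductive group in an algebra of finite type are finitely
generated. -/
theorem fg_invariants (hG : IsLinearlyReductive k A) {R : Type u} [CommRing R] [Algebra k R]
    [Comod k A R] [IsCoactAlg k A R] [Algebra.FiniteType k R] : (invariants k A R).FG := by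
  classical
  obtain ⟨s, hs⟩ := (Algebra.FiniteType.out : (⊤ : Subalgebra k R).FG)
  choose U hUfin hUmem hUsub using fun v : s => exists_finite_subcomod (k := k) (C := A) (v : R)
  let W : Submodule k R := ⨆ v : s, U v
  have hW : IsSubcomod (k := k) (A := A) W := isSubcomod_iSup fun v => hUsub v
  haveI : Module.Finite k W := by
    haveI := fun v => hUfin v
    exact Submodule.finite_iSup U
  let b := Module.finBasis k W
  let ι := ULift.{u} (Fin (Module.finrank k W))
  let w : ι → R := fun i => (b i.down : R)
  have hind : LinearIndependent k w :=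
    ((b.linearIndependent.map' W.subtype (Submodule.ker_subtype W)).comp _ ULift.down_injective)
  -- dual functionals
  obtain ⟨φ, hφ⟩ : ∃ φ : ι → (R →ₗ[k] k), ∀ i j, φ j (w i) = if j = i then 1 else 0 := by
    obtain ⟨q, hq⟩ := LinearMap.exists_leftInverse_of_injective W.subtype (Submodule.ker_subtype W)
    refine ⟨fun j => (b.coord j.down) ∘ₗ q, fun i j => ?_⟩
    change b.coord j.down (q (W.subtype (b i.down))) = _
    rw [← LinearMap.comp_apply q, hq, LinearMap.id_apply, Module.Basis.coord_apply, Module.Basis.repr_self,
      Finsupp.single_apply]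
    exact if_congr ⟨fun h => (ULift.ext _ _ h).symm, fun h => congrArg ULift.down h.symm⟩ rfl rfl
  let m : ι → ι → A := fun j i => TensorProduct.lid k A ((φ j).rTensor A (Comod.coact (k := k) (A := A) (w i)))
  have hexp : ∀ i, Comod.coact (k := k) (A := A) (w i) = ∑ j, w j ⊗ₜ[k] m j i := by
    intro i
    obtain ⟨x, hx⟩ := hW (w i) (b i.down).2
    have hx' : ∀ x : W ⊗[k] A, W.subtype.rTensor A x =
        ∑ j, w j ⊗ₜ[k] TensorProduct.lid k A ((φ j).rTensor A (W.subtype.rTensor A x)) := fun x => by
      induction x using TensorProduct.induction_on with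
      | zero => simp
      | tmul p a =>
        have hp : (p : R) = ∑ j, φ j (p : R) • w j := by
          have h1 : ((LinearMap.id : R →ₗ[k] R).comp W.subtype) =
              (∑ j, (φ j).smulRight (w j)).comp W.subtype :=
            b.ext fun l => by
              have : ∀ j : ι, φ j (b l : R) = if j = ULift.up l then 1 else 0 := fun j => hφ (ULift.up l) j
              simp only [LinearMap.comp_apply, LinearMap.id_apply, LinearMap.coe_sum, Finset.sum_apply,
                LinearMap.smulRight_apply, Submodule.coe_subtype, this, ite_smul, one_smul, zero_smul]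
              rw [Finset.sum_eq_single (ULift.up l) (fun j _ hj => if_neg hj) (fun h => absurd (Finset.mem_univ _) h), if_pos rfl]
          simpa using LinearMap.congr_fun h1 p
        simp only [LinearMap.rTensor_tmul, Submodule.coe_subtype, TensorProduct.lid_tmul]
        conv_lhs => rw [hp, TensorProduct.sum_tmul]
        exact Finset.sum_congr rfl fun j _ => TensorProduct.smul_tmul _ _ _
      | add p q hp hq =>
        simp only [map_add, TensorProduct.tmul_add, Finset.sum_add_distrib]
        rw [← hp, ← hq]
    rw [← hx]
    refine (hx' x).trans (Finset.sum_congr rfl fun j _ => ?_)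
    rw [hx]
  have hm : ∀ i j, Coalgebra.comul (R := k) (m j i) = ∑ l, m j l ⊗ₜ[k] m l i := by
    intro i j
    have h0 := LinearMap.congr_fun (Comod.coassoc (k := k) (A := A) (V := R)) (w i)
    simp only [LinearMap.comp_apply, LinearEquiv.coe_coe, hexp i, map_sum, LinearMap.rTensor_tmul,
      LinearMap.lTensor_tmul] at h0
    have h1 := congrArg (fun z => TensorProduct.lid k (A ⊗[k] A) ((φ j).rTensor (A ⊗[k] A) z)) h0
    simp only [hexp, TensorProduct.sum_tmul, map_sum, TensorProduct.assoc_tmul, LinearMap.rTensor_tmul,
      TensorProduct.lid_tmul, hφ, ite_smul, one_smul, zero_smul] at h1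
    simp only [fun (M : Type u) [AddCommMonoid M] (g : ι → M) => (Finset.sum_eq_single (s := Finset.univ) (f := fun x => if j = x then g x else 0) j (fun b _ hb => if_neg fun e => hb e.symm) (fun hh => absurd (Finset.mem_univ j) hh)).trans (if_pos rfl)] at h1
    exact h1.symm
  have hm' : ∀ i j, Coalgebra.counit (R := k) (m j i) = if j = i then 1 else 0 := by
    intro i j
    have h0 := LinearMap.congr_fun (Comod.counit_comp (k := k) (A := A) (V := R)) (w i)
    simp only [LinearMap.comp_apply, hexp i, map_sum, LinearMap.lTensor_tmul, LinearMap.flip_apply,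
      TensorProduct.mk_apply] at h0
    have h1 := congrArg (fun z => TensorProduct.rid k k ((φ j).rTensor k z)) h0
    simp only [map_sum, LinearMap.rTensor_tmul, TensorProduct.rid_tmul, hφ, smul_eq_mul, mul_ite, mul_one,
      mul_zero] at h1
    rw [Finset.sum_eq_single j (fun b _ hb => if_neg fun e => hb e.symm) (fun hh => absurd (Finset.mem_univ j) hh), if_pos rfl] at h1
    simpa using h1
  letI : Comod k A (MvPolynomial ι k) := substComod m hm hm'
  haveI : IsCoactAlg k A (MvPolynomial ι k) :=
    ⟨map_one (substCoact m), map_mul (substCoact m)⟩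
  let π : MvPolynomial ι k →ₐ[k] R := MvPolynomial.aeval w
  have hπ : Hoch.IsComodHom A π.toLinearMap := by
    have : (GLin.coactAlgHom k A R).comp π = (Algebra.TensorProduct.map π (AlgHom.id k A)).comp (substCoact m) :=
      MvPolynomial.algHom_ext fun i => by
        simp only [AlgHom.comp_apply, π, MvPolynomial.aeval_X, GLin.coactAlgHom_apply, hexp, substCoact_X, map_sum,
          Algebra.TensorProduct.map_tmul, AlgHom.id_apply]
    exact LinearMap.ext fun p => AlgHom.congr_fun this p
  have hsurj : Function.Surjective π := by
    rw [← AlgHom.range_eq_top, eq_top_iff, ← hs, Algebra.adjoin_le_iff]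
    intro v hv
    have hvW : v ∈ W := Submodule.mem_iSup_of_mem (⟨v, hv⟩ : s) (hUmem ⟨v, hv⟩)
    have hle : W ≤ (Subalgebra.toSubmodule π.range) := fun z hz => by
      rw [show z = (W.subtype ⟨z, hz⟩) from rfl, ← b.sum_repr ⟨z, hz⟩, map_sum]
      refine Submodule.sum_mem _ fun l _ => ?_
      rw [map_smul]
      exact Submodule.smul_mem _ _ ⟨X (ULift.up l), MvPolynomial.aeval_X _ _⟩
    exact hle hvW
  obtain ⟨t, ht⟩ := fg_invariants_linear (A := A) (ι := ι) (fun i => by
    change substCoact m (X i) ∈ _
    rw [substCoact_X]
    exact Submodule.sum_mem _ fun j _ => ⟨(⟨X j, isHomogeneous_X k j⟩ : homogeneousSubmodule ι k 1) ⊗ₜ[k] m j i, rfl⟩) hG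
  refine ⟨t.image π, ?_⟩
  rw [Finset.coe_image, Algebra.adjoin_image, ht]
  refine le_antisymm ?_ ?_
  · rintro _ ⟨p, hp, rfl⟩
    change Comod.coact (k := k) (A := A) (π.toLinearMap p) = _
    rw [IsComodHom.apply hπ, show Comod.coact (k := k) (A := A) p = p ⊗ₜ[k] (1 : A) from hp, LinearMap.rTensor_tmul]
    rfl
  · intro f hf
    obtain ⟨p, rfl⟩ := hsurj f
    refine ⟨Reynolds.reynolds hG p, Reynolds.reynolds_mem hG p, ?_⟩
    change π.toLinearMap (Reynolds.reynolds hG p) = π p
    rw [← Reynolds.reynolds_comm hG hπ]
    exact Reynolds.reynolds_fixed hG hf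

end GrothLib.AffQuot
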