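import Groth.Agent.Lib.AffQuot.Orbit

/-!
# The affine quotient by a linearly reductive group on rational points
-/

universe u

open TensorProduct HopfRep GLin GrothLib.Comodule

namespace GrothLib.AffQuot

variable {k : Type u} [Field k] {A : Type u} [CommRing A] [HopfAlgebra k A]
  {R : Type u} [CommRing R] [Algebra k R] [Comod k A R] [IsCoactAlg k A R]
  (hG : IsLinearlyReductive k A)

local notation "φ[" x "]" => GLin.orbitHom k A x

include hG

theorem reynolds_mul {c : R} (hc : c ∈ invariants k A R) (f : R) :
    Reynolds.reynolds (V := R) hG (c * f) = c * Reynolds.reynolds hG f :=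
  Reynolds.reynolds_comm hG (g := LinearMap.mulLeft k c) (Groth.Agent.S18834.isComodHom_mulLeft k A R hc) f

/-- The invariants vanishing at a point of the quotient generate, with a stable ideal of functions on
which the point vanishes, a proper ideal. -/
theorem sup_ne_top (I : Ideal R) (hI : IsSubcomod (k := k) (A := A) (I.restrictScalars k))
    (φ : invariants k A R →ₐ[k] k) (hφ : ∀ f : invariants k A R, (f : R) ∈ I → φ f = 0) :
    (RingHom.ker φ).map (invariants k A R).val ⊔ I ≠ ⊤ := by
  intro htop
  have key : ∀ a ∈ (RingHom.ker φ).map (invariants k A R).val, ∀ r : R,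
      φ ⟨Reynolds.reynolds hG (r * a), Reynolds.reynolds_mem hG _⟩ = 0 := by
    intro a ha
    induction ha using Submodule.span_induction with
    | mem a ha =>
      obtain ⟨c, hc, rfl⟩ := ha
      intro r
      have : (⟨Reynolds.reynolds hG (r * (c : R)), Reynolds.reynolds_mem hG _⟩ : invariants k A R) =
          c * ⟨Reynolds.reynolds hG r, Reynolds.reynolds_mem hG r⟩ :=
        Subtype.ext (by rw [mul_comm r]; exact reynolds_mul hG c.2 r)
      change φ ⟨Reynolds.reynolds hG (r * (c : R)), _⟩ = 0
      rw [this, map_mul, RingHom.mem_ker.1 hc, zero_mul]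
    | zero => exact fun r => by simp only [mul_zero, map_zero]; exact map_zero φ
    | add a b _ _ ha hb =>
      intro r
      have := congrArg₂ (· + ·) (ha r) (hb r)
      simp only [add_zero, ← map_add] at this
      rw [← this]
      exact congrArg φ (Subtype.ext (by simp [mul_add]))
    | smul s a _ ih =>
      intro r
      simpa only [smul_eq_mul, mul_assoc] using ih (r * s)
  have h1 : (1 : R) ∈ (RingHom.ker φ).map (invariants k A R).val ⊔ I := htop ▸ Submodule.mem_top
  obtain ⟨a, ha, b, hb, hab⟩ := Submodule.mem_sup.1 h1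
  have h2 : (1 : invariants k A R) = ⟨Reynolds.reynolds hG (1 * a), Reynolds.reynolds_mem hG _⟩ +
      ⟨Reynolds.reynolds hG b, Reynolds.reynolds_mem hG _⟩ := Subtype.ext <| by
    change (1 : R) = _ + _
    rw [one_mul, ← map_add, hab]
    exact (Reynolds.reynolds_fixed hG (invariants k A R).one_mem).symm
  have h3 := congrArg φ h2
  rw [map_one, map_add, key a ha 1,
    hφ ⟨Reynolds.reynolds hG b, Reynolds.reynolds_mem hG b⟩ (Reynolds.reynolds_mem_sub hG hI hb), add_zero] at h3
  exact one_ne_zero h3

variable [IsAlgClosed k] [Algebra.FiniteType k R]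

/-- Points of the quotient lift to stable closed subsets. -/
theorem exists_lift (I : Ideal R) (hI : IsSubcomod (k := k) (A := A) (I.restrictScalars k))
    (φ : invariants k A R →ₐ[k] k) (hφ : ∀ f : invariants k A R, (f : R) ∈ I → φ f = 0) :
    ∃ x : R →ₐ[k] k, (∀ f ∈ I, x f = 0) ∧ ∀ f : invariants k A R, x f = φ f := by
  obtain ⟨x, hx⟩ := exists_point (k := k) (sup_ne_top hG I hI φ hφ)
  refine ⟨x, fun f hf => hx f (Submodule.mem_sup_right hf), fun f => ?_⟩
  have := eq_of_ker_le (z := φ) (w := x.comp (invariants k A R).val) fun c hc =>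
    hx _ (Submodule.mem_sup_left (Ideal.mem_map_of_mem _ (RingHom.mem_ker.2 hc)))
  exact (AlgHom.congr_fun this f).symm

omit hG [IsAlgClosed k] [Algebra.FiniteType k R] in
theorem isSubcomod_ker_orbitHom (x : R →ₐ[k] k) :
    IsSubcomod (k := k) (A := A) ((RingHom.ker φ[x]).restrictScalars k) :=
  GrothLib.Comodule.IsComodHom.ker_isSubcomod (isComodHom_orbitHom x)

/-- Points with equal invariants have a common point in their orbit closures. -/
theorem exists_common (x y : R →ₐ[k] k) (h : ∀ f ∈ fixedPts k A R, x f = y f) :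
    ∃ z : R →ₐ[k] k, Cl k A x z ∧ Cl k A y z := by
  haveI : Nontrivial A := (Bialgebra.counitAlgHom k A).toRingHom.domain_nontrivial
  suffices hne : RingHom.ker φ[x] ⊔ RingHom.ker φ[y] ≠ ⊤ by
    obtain ⟨z, hz⟩ := exists_point (k := k) hne
    exact ⟨z, fun f hf => hz f (Submodule.mem_sup_left hf), fun f hf => hz f (Submodule.mem_sup_right hf)⟩
  intro htop
  have h1 : (1 : R) ∈ RingHom.ker φ[x] ⊔ RingHom.ker φ[y] := htop ▸ Submodule.mem_top
  obtain ⟨a, ha, b, hb, hab⟩ := Submodule.mem_sup.1 h1
  have key : ∀ (p : R →ₐ[k] k) (c : R), c ∈ RingHom.ker φ[p] → p (Reynolds.reynolds hG c) = 0 := by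
    intro p c hc
    have h2 : φ[p] (Reynolds.reynolds hG c) = 0 :=
      RingHom.mem_ker.1 (Reynolds.reynolds_mem_sub hG (isSubcomod_ker_orbitHom p) hc)
    rw [invariant_eq (Reynolds.reynolds_mem hG c)] at h2
    exact (map_eq_zero _).1 h2
  have h2 : Reynolds.reynolds hG a + Reynolds.reynolds hG b = (1 : R) := by
    rw [← map_add, hab]
    exact Reynolds.reynolds_fixed hG (invariants k A R).one_mem
  have hx := congrArg x h2
  have hy := congrArg y h2
  rw [map_add, map_one, key x a ha, h _ (Reynolds.reynolds_mem hG b), key y b hb] at hx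
  simp at hx

variable [Algebra.FiniteType k A]

/-- The unique closed orbit in a fibre of the quotient lies in every orbit closure of that fibre. -/
theorem cl_of_closed {y x' : R →ₐ[k] k} (hy : ∀ z, Cl k A y z → Orb k A y z)
    (h : ∀ f ∈ fixedPts k A R, x' f = y f) : Cl k A x' y := by
  obtain ⟨z, hz, hz'⟩ := exists_common hG x' y h
  exact hz.trans (hy z hz').symm.cl

end GrothLib.AffQuot
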