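import Groth.Agent.Lib.AffQuot.Fibre
import Groth.Agent.Lib.Comod.Reynolds
import Groth.Agent.Lib.Comod.Coeff
import Groth.Agent.S18834
import Groth.Prelude.Def_GLin

/-!
# Orbits of rational points under an affine group acting on an affine scheme
-/

universe u

open TensorProduct HopfRep GLin WithConv

namespace GrothLib.AffQuot

variable {k : Type u} [Field k] {A : Type u} [CommRing A] [HopfAlgebra k A]
  {R : Type u} [CommRing R] [Algebra k R] [Comod k A R] [IsCoactAlg k A R]

local notation "φ[" x "]" => GLin.orbitHom k A x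

theorem orbitHom_apply (x : R →ₐ[k] k) (f : R) :
    φ[x] f = GrothLib.Comodule.cfMap (C := A) x.toLinearMap f := by
  simp only [GLin.orbitHom, AlgHom.comp_apply, GLin.coactAlgHom_apply, GrothLib.Comodule.cfMap_apply]
  induction Comod.coact (k := k) (A := A) f using TensorProduct.induction_on with
  | zero => simp
  | tmul p q => simp
  | add p q hp hq => simp only [map_add, hp, hq]

theorem apply_orbitHom (g : A →ₐ[k] k) (x : R →ₐ[k] k) (f : R) :
    g (φ[x] f) = x (Comod.act k A R g f) := by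
  rw [orbitHom_apply, GrothLib.Comodule.cfMap_apply, Comod.act, LinearMap.comp_apply, LinearMap.comp_apply]
  induction Comod.coact (k := k) (A := A) f using TensorProduct.induction_on with
  | zero => simp
  | tmul p q => simp [mul_comm]
  | add p q hp hq => simp only [map_add, hp, hq]

theorem isComodHom_orbitHom (x : R →ₐ[k] k) :
    Hoch.IsComodHom A ((φ[x] : R →ₐ[k] A).toLinearMap) := by
  have : ((φ[x] : R →ₐ[k] A).toLinearMap) = GrothLib.Comodule.cfMap (C := A) x.toLinearMap :=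
    LinearMap.ext (orbitHom_apply x)
  rw [this]
  exact GrothLib.Comodule.isComodHom_cfMap _

theorem comul_orbitHom (x : R →ₐ[k] k) (f : R) :
    Coalgebra.comul (R := k) (φ[x] f) =
      (φ[x] : R →ₐ[k] A).toLinearMap.rTensor A (Comod.coact (k := k) (A := A) f) :=
  GrothLib.Comodule.IsComodHom.apply (isComodHom_orbitHom x) f

theorem counit_orbitHom (x : R →ₐ[k] k) (f : R) : Coalgebra.counit (R := k) (φ[x] f) = x f := by
  rw [orbitHom_apply, GrothLib.Comodule.counit_cfMap]; rfl

/-- The point moved by the identity. -/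
theorem one_comp_orbitHom (x : R →ₐ[k] k) :
    ((1 : WithConv (A →ₐ[k] k)).ofConv).comp φ[x] = x :=
  AlgHom.ext fun f => by
    rw [AlgHom.comp_apply]
    exact counit_orbitHom x f

/-- Moving twice is moving by the product. -/
theorem comp_orbitHom_comp (x : R →ₐ[k] k) (g h : A →ₐ[k] k) :
    h.comp φ[g.comp φ[x]] = (toConv g * toConv h).ofConv.comp φ[x] := by
  ext f
  rw [AlgHom.comp_apply, AlgHom.comp_apply, orbitHom_apply, GrothLib.Comodule.cfMap_apply,
    AlgHom.convMul_def]
  simp only [ofConv_toConv, AlgHom.comp_apply, Bialgebra.comulAlgHom_apply, comul_orbitHom]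
  induction Comod.coact (k := k) (A := A) f using TensorProduct.induction_on with
  | zero => simp
  | tmul p q => simp
  | add p q hp hq => simp only [map_add, hp, hq]

variable (k A) in
/-- `z` is in the orbit of `x`. -/
def Orb (x z : R →ₐ[k] k) : Prop := ∃ g : A →ₐ[k] k, g.comp φ[x] = z

variable (k A) in
/-- the points moving `x` to `z` -/
def transporter (x z : R →ₐ[k] k) : Set (A →ₐ[k] k) := {g | g.comp φ[x] = z}

theorem orb_iff (x z : R →ₐ[k] k) :
    Orb k A x z ↔ ∃ g : A →ₐ[k] k, ∀ f : R, z f = x (Comod.act k A R g f) := by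
  refine exists_congr fun g => ⟨fun h f => ?_, fun h => AlgHom.ext fun f => ?_⟩
  · rw [← h, AlgHom.comp_apply, apply_orbitHom]
  · rw [AlgHom.comp_apply, apply_orbitHom, h]

theorem orb_refl (x : R →ₐ[k] k) : Orb k A x x := ⟨_, one_comp_orbitHom x⟩

theorem Orb.trans {x y z : R →ₐ[k] k} (h : Orb k A x y) (h' : Orb k A y z) : Orb k A x z := by
  obtain ⟨g, rfl⟩ := h
  obtain ⟨g', rfl⟩ := h'
  exact ⟨_, (comp_orbitHom_comp x g g').symm⟩

theorem Orb.symm {x y : R →ₐ[k] k} (h : Orb k A x y) : Orb k A y x := by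
  obtain ⟨g, rfl⟩ := h
  refine ⟨((toConv g)⁻¹).ofConv, ?_⟩
  rw [comp_orbitHom_comp, toConv_ofConv, mul_inv_cancel, one_comp_orbitHom]

variable (k A) in
/-- `z` lies in the closure of the orbit of `x`. -/
def Cl (x z : R →ₐ[k] k) : Prop := ∀ f : R, φ[x] f = 0 → z f = 0

theorem Orb.cl {x z : R →ₐ[k] k} (h : Orb k A x z) : Cl k A x z := by
  obtain ⟨g, rfl⟩ := h
  intro f hf
  rw [AlgHom.comp_apply, hf, map_zero]

theorem cl_refl (x : R →ₐ[k] k) : Cl k A x x := (orb_refl x).cl

theorem Cl.ker_le {x z : R →ₐ[k] k} (h : Cl k A x z) {f : R} (hf : φ[x] f = 0) : φ[z] f = 0 := by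
  obtain ⟨w, hw⟩ := GrothLib.Comodule.IsComodHom.ker_isSubcomod (isComodHom_orbitHom x) f hf
  rw [orbitHom_apply, GrothLib.Comodule.cfMap_apply, ← hw, ← LinearMap.rTensor_comp_apply,
    show z.toLinearMap ∘ₗ (LinearMap.ker ((φ[x] : R →ₐ[k] A).toLinearMap)).subtype = 0 from
      LinearMap.ext fun a => h a a.2, LinearMap.rTensor_zero, LinearMap.zero_apply, map_zero]

theorem Cl.trans {x y z : R →ₐ[k] k} (h : Cl k A x y) (h' : Cl k A y z) : Cl k A x z :=
  fun _ hf => h' _ (h.ker_le hf)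

theorem invariant_eq {x : R →ₐ[k] k} {f : R} (hf : f ∈ fixedPts k A R) :
    φ[x] f = algebraMap k A (x f) := by
  rw [orbitHom_apply, GrothLib.Comodule.cfMap_apply,
    show Comod.coact (k := k) (A := A) f = f ⊗ₜ[k] (1 : A) from hf, LinearMap.rTensor_tmul,
    TensorProduct.lid_tmul, Algebra.algebraMap_eq_smul_one]
  rfl

/-- Invariants are constant on orbit closures. -/
theorem Cl.invariant {x z : R →ₐ[k] k} (h : Cl k A x z) {f : R} (hf : f ∈ fixedPts k A R) : z f = x f := by
  have h0 := h (f - algebraMap k R (x f)) (by rw [map_sub, invariant_eq hf, AlgHom.commutes, sub_self])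
  rwa [map_sub, AlgHom.commutes, sub_eq_zero] at h0

theorem transporter_finite_iff {x y : R →ₐ[k] k} (h : Orb k A x y) :
    (transporter k A y y).Finite ↔ (transporter k A x x).Finite := by
  have main : ∀ {x y : R →ₐ[k] k}, Orb k A x y →
      (transporter k A x x).Finite → (transporter k A y y).Finite := by
    intro x y hxy hx
    obtain ⟨g, hg⟩ := hxy
    let F : (A →ₐ[k] k) → (A →ₐ[k] k) := fun a => (toConv g * toConv a * (toConv g)⁻¹).ofConv
    refine Set.Finite.of_injOn (f := F) (fun a ha => ?_) (fun a _ b _ hab => ?_) hx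
    · change F a ∈ {c : A →ₐ[k] k | c.comp φ[x] = x}
      have e1 : (toConv g * toConv a).ofConv.comp φ[x] = y := by
        rw [← comp_orbitHom_comp, hg]; exact ha
      change (F a).comp φ[x] = x
      have e2 := comp_orbitHom_comp x (toConv g * toConv a).ofConv ((toConv g)⁻¹).ofConv
      rw [e1, toConv_ofConv, toConv_ofConv] at e2
      rw [show F a = (toConv g * toConv a * (toConv g)⁻¹).ofConv from rfl, ← e2]
      have e3 := comp_orbitHom_comp x g ((toConv g)⁻¹).ofConv
      rw [hg, toConv_ofConv, mul_inv_cancel, one_comp_orbitHom] at e3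
      exact e3
    · exact toConv_injective (mul_left_cancel (mul_right_cancel (congrArg toConv hab)))
  exact ⟨main h.symm, main h⟩

section Finite

variable [IsAlgClosed k] [Algebra.FiniteType k A]

theorem cl_iff {x z : R →ₐ[k] k} :
    Cl k A x z ↔ ∀ f : R, (∀ g : A →ₐ[k] k, x (Comod.act k A R g f) = 0) → z f = 0 := by
  refine ⟨fun h f hf => ?_, fun h f hf => h f fun g => by rw [← apply_orbitHom, hf, map_zero]⟩
  obtain ⟨n, hn⟩ := isNilpotent_of_forall (k := k) (f := φ[x] f) fun g => by rw [apply_orbitHom, hf]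
  rw [← map_pow] at hn
  exact eq_zero_of_pow_eq_zero (n := n) (by rw [← map_pow]; exact h _ hn)

variable [Algebra.FiniteType k R]

/-- An orbit is open in its closure, near every component. -/
theorem exists_open_orbit (y : R →ₐ[k] k) {p : Ideal (R ⧸ RingHom.ker φ[y])} (hp : p ∈ minimalPrimes _) :
    ∃ h : R, Ideal.Quotient.mk _ h ∉ p ∧ ∀ z : R →ₐ[k] k, Cl k A y z → z h ≠ 0 → Orb k A y z := by
  obtain ⟨h', hh, H⟩ := exists_liftable (k := k) (Ideal.kerLiftAlg φ[y]) (Ideal.kerLiftAlg_injective φ[y]) hp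
  obtain ⟨h, rfl⟩ := Ideal.Quotient.mk_surjective h'
  refine ⟨h, hh, fun z hz hzh => ?_⟩
  obtain ⟨g, hg⟩ := H (Ideal.Quotient.liftₐ _ z fun f hf => hz f hf) hzh
  exact ⟨g, AlgHom.ext fun f => AlgHom.congr_fun hg (Ideal.Quotient.mk _ f)⟩

theorem orb_of_cl_cl {y z : R →ₐ[k] k} (h : Cl k A y z) (h' : Cl k A z y) : Orb k A y z := by
  haveI : Nontrivial (R ⧸ RingHom.ker φ[y]) :=
    ((Ideal.Quotient.liftₐ (RingHom.ker φ[y]) y fun f hf => cl_refl y f hf) :
      R ⧸ RingHom.ker φ[y] →ₐ[k] k).toRingHom.domain_nontrivial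
  obtain ⟨p, hp⟩ := Ideal.nonempty_minimalPrimes (I := (⊥ : Ideal (R ⧸ RingHom.ker φ[y]))) bot_ne_top
  haveI := hp.1.1
  obtain ⟨f, hfp, H⟩ := exists_open_orbit y hp
  obtain ⟨g, hg⟩ : ∃ g : A →ₐ[k] k, g (φ[z] f) ≠ 0 := by
    by_contra hne
    push Not at hne
    obtain ⟨n, hn⟩ := isNilpotent_of_forall (k := k) hne
    rw [← map_pow] at hn
    refine hfp (Ideal.IsPrime.mem_of_pow_mem ‹_› n ?_)
    rw [← map_pow, Ideal.Quotient.eq_zero_iff_mem.2 (RingHom.mem_ker.2 (h'.ker_le hn))]
    exact p.zero_mem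
  have hzg : Orb k A z (g.comp φ[z]) := ⟨g, rfl⟩
  exact (H _ (h.trans hzg.cl) hg).trans hzg.symm

/-- A point in the closure whose own closure is as small as possible has closed orbit. -/
theorem exists_closed_orbit (x : R →ₐ[k] k) :
    ∃ y : R →ₐ[k] k, Cl k A x y ∧ ∀ z : R →ₐ[k] k, Cl k A y z → Orb k A y z := by
  haveI : IsNoetherianRing R := Algebra.FiniteType.isNoetherianRing k R
  obtain ⟨I, ⟨y, hy, rfl⟩, hmax⟩ := set_has_maximal_iff_noetherian.2 (inferInstance : IsNoetherian R R)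
    {I : Ideal R | ∃ y : R →ₐ[k] k, Cl k A x y ∧ RingHom.ker φ[y] = I} ⟨_, x, cl_refl x, rfl⟩
  refine ⟨y, hy, fun z hz => orb_of_cl_cl hz fun f hf => ?_⟩
  have hle : RingHom.ker φ[y] ≤ RingHom.ker φ[z] := fun a ha => hz.ker_le ha
  have := hmax _ ⟨z, hy.trans hz, rfl⟩
  have heq : RingHom.ker φ[y] = RingHom.ker φ[z] := hle.eq_or_lt.resolve_right this
  exact cl_refl y f (heq.ge hf)

end Finite

end GrothLib.AffQuot
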