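import Mathlib
import Groth.Agent.Lib.GenFree.Generic
import Groth.Agent.Lib.GenFree.Presentation
import Groth.Agent.Lib.Dim.Ring

/-!
# Rational points of algebras of finite type over an algebraically closed field

Nullstellensatz for algebra maps, liftable points, dimension inequalities, and the open locus of
quasi-finite points.
-/

universe u

open TensorProduct

namespace GrothLib.AffQuot

variable {k : Type u} [Field k]

theorem ker_isMaximal {B : Type u} [CommRing B] [Algebra k B] (z : B →ₐ[k] k) :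
    (RingHom.ker z).IsMaximal :=
  RingHom.ker_isMaximal_of_surjective z fun c => ⟨algebraMap k B c, z.commutes c⟩

instance instIsMaximalKer {B : Type u} [CommRing B] [Algebra k B] (z : B →ₐ[k] k) : (RingHom.ker z).IsMaximal :=
  ker_isMaximal z

theorem eq_of_ker_le {B : Type u} [CommRing B] [Algebra k B] {z w : B →ₐ[k] k}
    (h : ∀ f, z f = 0 → w f = 0) : z = w := by
  ext f
  have := h (f - algebraMap k B (z f)) (by simp)
  rw [map_sub, AlgHom.commutes, sub_eq_zero] at this
  exact this.symm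

variable [IsAlgClosed k]

section Nullstellensatz

variable {B : Type u} [CommRing B] [Algebra k B] [Algebra.FiniteType k B]

theorem exists_ker_eq (M : Ideal B) [M.IsMaximal] : ∃ z : B →ₐ[k] k, RingHom.ker z = M := by
  letI : Field (B ⧸ M) := Ideal.Quotient.field M
  haveI : Module.Finite k (B ⧸ M) := finite_of_finite_type_of_isJacobsonRing k (B ⧸ M)
  let e : k ≃ₐ[k] (B ⧸ M) := AlgEquiv.ofBijective (Algebra.ofId k (B ⧸ M))
    (IsAlgClosed.algebraMap_bijective_of_isIntegral)
  refine ⟨e.symm.toAlgHom.comp (Ideal.Quotient.mkₐ k M), ?_⟩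
  ext f
  simp [RingHom.mem_ker, Ideal.Quotient.eq_zero_iff_mem]

theorem exists_point {I : Ideal B} (hI : I ≠ ⊤) : ∃ z : B →ₐ[k] k, ∀ f ∈ I, z f = 0 := by
  obtain ⟨M, hM, hle⟩ := Ideal.exists_le_maximal I hI
  obtain ⟨z, rfl⟩ := exists_ker_eq (k := k) M
  exact ⟨z, fun f hf => hle hf⟩

/-- A function vanishing at all rational points is nilpotent. -/
theorem isNilpotent_of_forall {f : B} (h : ∀ z : B →ₐ[k] k, z f = 0) : IsNilpotent f := by
  haveI : IsJacobsonRing B := isJacobsonRing_of_finiteType (A := k)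
  rw [← mem_nilradical, nilradical, Ideal.radical_eq_jacobson, Ideal.jacobson, Submodule.mem_sInf]
  rintro M ⟨-, hM⟩
  obtain ⟨z, rfl⟩ := exists_ker_eq (k := k) M
  exact h z

/-- A function outside a prime is nonzero at some rational point of that prime. -/
theorem exists_point_ne_zero {p : Ideal B} [p.IsPrime] {f : B} (hf : f ∉ p) :
    ∃ z : B →ₐ[k] k, (∀ b ∈ p, z b = 0) ∧ z f ≠ 0 := by
  by_contra hne
  push Not at hne
  refine hf ?_
  have : IsNilpotent (Ideal.Quotient.mk p f) := isNilpotent_of_forall (k := k) fun z =>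
    hne (z.comp (Ideal.Quotient.mkₐ k p)) fun b hb => by
      simp [Ideal.Quotient.eq_zero_iff_mem.2 hb]
  exact Ideal.Quotient.eq_zero_iff_mem.1 this.eq_zero

theorem point_eq_zero_of_isNilpotent (z : B →ₐ[k] k) {f : B} (hf : IsNilpotent f) : z f = 0 :=
  (hf.map z).eq_zero

end Nullstellensatz

section Lift

variable {A B : Type u} [CommRing A] [Algebra k A] [Algebra.FiniteType k A]
  [CommRing B] [Algebra k B] [Algebra.FiniteType k B]

/-- Along an injective map, points lift over an open set meeting a given minimal prime. -/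
theorem exists_liftable (φ : B →ₐ[k] A) (hφ : Function.Injective φ) {p : Ideal B}
    (hp : p ∈ minimalPrimes B) :
    ∃ h : B, h ∉ p ∧ ∀ z : B →ₐ[k] k, z h ≠ 0 → ∃ g : A →ₐ[k] k, g.comp φ = z := by
  classical
  haveI := hp.1.1
  obtain ⟨q, hq, hqp⟩ := Ideal.exists_comap_eq_of_mem_minimalPrimes_of_injective (f := φ.toRingHom) hφ p hp
  haveI := hq
  -- the domain case
  let ψ : B ⧸ p →ₐ[k] A ⧸ q := Ideal.quotientMapₐ q φ hqp.ge
  have hψ : Function.Injective ψ := Ideal.quotientMap_injective' (f := φ.toRingHom) (H := hqp.ge) hqp.le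
  letI : Algebra (B ⧸ p) (A ⧸ q) := ψ.toRingHom.toAlgebra
  haveI : IsScalarTower k (B ⧸ p) (A ⧸ q) := IsScalarTower.of_algebraMap_eq fun x => (ψ.commutes x).symm
  haveI : Algebra.FiniteType (B ⧸ p) (A ⧸ q) := Algebra.FiniteType.of_restrictScalars_finiteType k _ _
  obtain ⟨f, -, hf, hfree⟩ := GenFree.gf_of_finiteType (R := B ⧸ p) (A ⧸ q) (A ⧸ q) 1 one_ne_zero
  obtain ⟨h₁, rfl⟩ := Ideal.Quotient.mk_surjective f
  haveI := GenFree.FreeOn.free_tensor hfree (Localization.Away (Ideal.Quotient.mk p h₁))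
  obtain ⟨h₂, h₂o, h₂p⟩ : ∃ h₂ : B, (∀ p' ∈ minimalPrimes B, p' ≠ p → h₂ ∈ p') ∧ h₂ ∉ p := by
    haveI : IsNoetherianRing B := Algebra.FiniteType.isNoetherianRing k B
    let F := (minimalPrimes.finite_of_isNoetherianRing B).toFinset.erase p
    have hF : ∀ p' ∈ F, ∃ b ∈ p', b ∉ p := fun p' hp' => by
      simp only [F, Finset.mem_erase, Set.Finite.mem_toFinset] at hp'
      by_contra hne
      push Not at hne
      exact hp'.1 (le_antisymm hne (hp.2 hp'.2.1 hne))
    choose b hb hbp using hF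
    refine ⟨∏ x : F, b x x.2, fun p' hp' hne => ?_, fun hmem => ?_⟩
    · have hp'F : p' ∈ F := by simp [F, hp', hne]
      exact Ideal.mem_of_dvd _ (Finset.dvd_prod_of_mem (fun x : F => b x.1 x.2) (Finset.mem_univ ⟨p', hp'F⟩)) (hb p' hp'F)
    · obtain ⟨x, -, hx⟩ := (Ideal.IsPrime.prod_mem_iff (p := p)).1 hmem
      exact hbp _ x.2 hx
  have h₁p : h₁ ∉ p := fun h => hf (Ideal.Quotient.eq_zero_iff_mem.2 h)
  refine ⟨h₁ * h₂, fun hh => (Ideal.IsPrime.mem_or_mem ‹_› hh).elim h₁p h₂p, fun z hz => ?_⟩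
  have hzp : ∀ b ∈ p, z b = 0 := by
    haveI := ker_isMaximal z
    obtain ⟨p', hp', hle⟩ := Ideal.exists_minimalPrimes_le (J := RingHom.ker z) (bot_le : (⊥ : Ideal B) ≤ _)
    by_cases he : p' = p
    · subst he; exact fun b hb => hle hb
    · exact absurd (show z h₂ = 0 from hle (h₂o p' hp' he)) (fun h0 => hz (by rw [map_mul, h0, mul_zero]))
  let z' : B ⧸ p →ₐ[k] k := Ideal.Quotient.liftₐ p z hzp
  have hz'f : IsUnit (z'.toRingHom (Ideal.Quotient.mk p h₁)) := by
    change IsUnit (z h₁)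
    exact isUnit_iff_ne_zero.2 fun h0 => hz (by rw [map_mul, h0, zero_mul])
  set f := Ideal.Quotient.mk p h₁
  let Bf := Localization.Away f
  let C := Bf ⊗[B ⧸ p] (A ⧸ q)
  let m : Ideal (B ⧸ p) := RingHom.ker z'
  suffices hne : m.map (algebraMap (B ⧸ p) (A ⧸ q)) ≠ ⊤ by
    obtain ⟨g, hg⟩ := exists_point (k := k) hne
    refine ⟨g.comp (Ideal.Quotient.mkₐ k q), (eq_of_ker_le fun b hb => ?_).symm⟩
    refine hg (ψ (Ideal.Quotient.mk p b)) (Ideal.mem_map_of_mem _ ?_)
    exact RingHom.mem_ker.2 hb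
  intro htop
  haveI : Nontrivial Bf := (IsLocalization.Away.lift f hz'f : Bf →+* k).domain_nontrivial
  haveI : Module.Flat (B ⧸ p) Bf := IsLocalization.flat Bf (Submonoid.powers f)
  haveI : Nontrivial C := by
    have hi : Function.Injective (LinearMap.lTensor Bf (Algebra.linearMap (B ⧸ p) (A ⧸ q))) :=
      Module.Flat.lTensor_preserves_injective_linearMap _ hψ
    exact (hi.comp (TensorProduct.rid (B ⧸ p) Bf).symm.injective).nontrivial
  haveI : Module.FaithfullyFlat Bf C := inferInstance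
  have hC : (m.map (algebraMap (B ⧸ p) C)) = ⊤ := by
    have h2 : algebraMap (B ⧸ p) C =
        (Algebra.TensorProduct.includeRight : A ⧸ q →ₐ[B ⧸ p] C).toRingHom.comp (algebraMap (B ⧸ p) (A ⧸ q)) :=
      (Algebra.TensorProduct.includeRight (R := B ⧸ p) (A := Bf) (B := A ⧸ q)).comp_algebraMap.symm
    rw [h2, ← Ideal.map_map, htop, Ideal.map_top]
  rw [IsScalarTower.algebraMap_eq (B ⧸ p) Bf C, ← Ideal.map_map] at hC
  have h3 : m.map (algebraMap (B ⧸ p) Bf) = ⊤ := by
    rw [← Ideal.comap_map_eq_self_of_faithfullyFlat (B := C) (m.map (algebraMap (B ⧸ p) Bf)), hC,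
      Ideal.comap_top]
  have h4 := congrArg (Ideal.map (IsLocalization.Away.lift f hz'f : Bf →+* k)) h3
  rw [Ideal.map_map, IsLocalization.Away.lift_comp, Ideal.map_top] at h4
  have h5 : m.map z'.toRingHom ≤ ⊥ := Ideal.map_le_iff_le_comap.2 fun b hb => hb
  exact top_ne_bot (le_bot_iff.1 (h4 ▸ h5))

end Lift

end GrothLib.AffQuot
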