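import Groth.Agent.Lib.AffQuot.Stable
import Groth.Agent.Lib.Hopf.Translate

/-!
# The points with finite stabiliser form an open set
-/

universe u

open TensorProduct HopfRep GLin WithConv

namespace GrothLib.AffQuot

variable {k : Type u} [Field k] [IsAlgClosed k] {A : Type u} [CommRing A] [HopfAlgebra k A]
  [Algebra.FiniteType k A]
  {R : Type u} [CommRing R] [Algebra k R] [Algebra.FiniteType k R] [Comod k A R] [IsCoactAlg k A R]

local notation "φ[" x "]" => GLin.orbitHom k A x

variable (k A R) in
/-- The stabiliser scheme over `Spec R`. -/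
abbrev StabRing : Type u :=
  (R ⊗[k] A) ⧸ Ideal.span (Set.range fun f : R => GLin.coactAlgHom k A R f - f ⊗ₜ[k] (1 : A))

variable (k A R) in
/-- The identity section of the stabiliser scheme. -/
noncomputable def stabSection : StabRing k A R →ₐ[k] R :=
  Ideal.Quotient.liftₐ _ (Algebra.TensorProduct.lift (AlgHom.id k R)
    ((Algebra.ofId k R).comp (Bialgebra.counitAlgHom k A)) (fun _ _ => Commute.all _ _)) <| fun a ha => by
    refine (Ideal.span_le (I := RingHom.ker _)).2 ?_ ha
    rintro _ ⟨f, rfl⟩
    rw [SetLike.mem_coe, RingHom.mem_ker, map_sub, sub_eq_zero]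
    have h : ∀ x : R ⊗[k] A, Algebra.TensorProduct.lift (AlgHom.id k R)
        ((Algebra.ofId k R).comp (Bialgebra.counitAlgHom k A)) (fun _ _ => Commute.all _ _) x =
        TensorProduct.rid k R ((Coalgebra.counit (R := k) (A := A)).lTensor R x) := fun x => by
      induction x using TensorProduct.induction_on with
      | zero => simp
      | tmul p q => simp [Algebra.smul_def, Algebra.ofId_apply, mul_comm]
      | add p q hp hq => simp only [map_add, hp, hq]
    rw [h, h]
    have := LinearMap.congr_fun (Comod.counit_comp (k := k) (A := A) (V := R)) f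
    simp only [LinearMap.comp_apply] at this
    rw [GLin.coactAlgHom_apply, this, LinearMap.lTensor_tmul, Bialgebra.counit_one]
    simp

omit [IsAlgClosed k] [Algebra.FiniteType k A] [Algebra.FiniteType k R] in
theorem stabSection_mk (p : R) (a : A) :
    stabSection k A R (Ideal.Quotient.mk _ (p ⊗ₜ[k] a)) = p * algebraMap k R (Coalgebra.counit a) := rfl

instance : Algebra.FiniteType k (StabRing k A R) :=
  haveI : Algebra.FiniteType k (R ⊗[k] A) := Algebra.FiniteType.trans (S := R) inferInstance inferInstance
  inferInstance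

omit [IsAlgClosed k] [Algebra.FiniteType k A] [Algebra.FiniteType k R] in
theorem point_coact (z : R →ₐ[k] k) (g : A →ₐ[k] k) (f : R) :
    Algebra.TensorProduct.lift z g (fun _ _ => Commute.all _ _) (GLin.coactAlgHom k A R f) = g (φ[z] f) := by
  rw [orbitHom_apply, GrothLib.Comodule.cfMap_apply, GLin.coactAlgHom_apply]
  induction Comod.coact (k := k) (A := A) f using TensorProduct.induction_on with
  | zero => simp
  | tmul p q => simp
  | add p q hp hq => simp only [map_add, hp, hq]

theorem quasiFiniteAt_of_finite_stab (z : R →ₐ[k] k) (h : (transporter k A z z).Finite) :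
    Algebra.QuasiFiniteAt R (RingHom.ker (z.comp (stabSection k A R))) := by
  let i : A →ₐ[k] StabRing k A R :=
    (Ideal.Quotient.mkₐ k _).comp (Algebra.TensorProduct.includeRight : A →ₐ[k] R ⊗[k] A)
  refine quasiFiniteAt_of_finite (B := R) (z.comp (stabSection k A R)) ?_
  have hz : (z.comp (stabSection k A R)).comp (IsScalarTower.toAlgHom k R (StabRing k A R)) = z := by
    ext f
    change z (stabSection k A R (Ideal.Quotient.mk _ (f ⊗ₜ[k] (1 : A)))) = z f
    rw [stabSection_mk]; simp
  rw [hz]
  refine Set.Finite.of_injOn (f := fun G : StabRing k A R →ₐ[k] k => G.comp i) ?_ ?_ h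
  · intro G hG
    have hG' : G.comp (IsScalarTower.toAlgHom k R (StabRing k A R)) = z := hG
    have heq : G.comp (Ideal.Quotient.mkₐ k _) =
        Algebra.TensorProduct.lift z (G.comp i) (fun _ _ => Commute.all _ _) :=
      Algebra.TensorProduct.ext' fun p q => by
        rw [Algebra.TensorProduct.lift_tmul, ← hG', AlgHom.comp_apply, AlgHom.comp_apply, AlgHom.comp_apply,
          ← map_mul]
        congr 1
        change Ideal.Quotient.mk _ (p ⊗ₜ[k] q) = Ideal.Quotient.mk _ (p ⊗ₜ[k] (1 : A)) * Ideal.Quotient.mk _ ((1 : R) ⊗ₜ[k] q)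
        rw [← map_mul, Algebra.TensorProduct.tmul_mul_tmul, mul_one, one_mul]
    refine AlgHom.ext fun f => ?_
    rw [AlgHom.comp_apply, ← point_coact, ← heq, ← hG']
    change G (Ideal.Quotient.mk _ _) = G (Ideal.Quotient.mk _ (f ⊗ₜ[k] (1 : A)))
    exact congrArg G (Ideal.Quotient.eq.2 (Ideal.subset_span ⟨f, rfl⟩))
  · intro G hG G' hG' e
    refine Ideal.Quotient.algHom_ext k (Algebra.TensorProduct.ext (?_) e)
    exact AlgHom.ext fun f => AlgHom.congr_fun ((show _ = z from hG).trans (show _ = z from hG').symm) f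

theorem finite_stab_of_quasiFiniteAt (z : R →ₐ[k] k)
    [Algebra.QuasiFiniteAt R (RingHom.ker (z.comp (stabSection k A R)))] :
    (transporter k A z z).Finite := by
  classical
  let I : Ideal A := Ideal.span (Set.range fun f : R => φ[z] f - algebraMap k A (z f))
  let D := A ⧸ I
  have hmem : ∀ g : A →ₐ[k] k, g ∈ transporter k A z z → ∀ a ∈ I, g a = 0 := by
    intro g hg a ha
    refine (Ideal.span_le (I := RingHom.ker g)).2 ?_ ha
    rintro _ ⟨f, rfl⟩
    rw [SetLike.mem_coe, RingHom.mem_ker, map_sub, AlgHom.commutes, sub_eq_zero]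
    exact AlgHom.congr_fun hg f
  let pt : ∀ g : transporter k A z z, PrimeSpectrum D := fun g =>
    ⟨RingHom.ker (Ideal.Quotient.liftₐ I g.1 (hmem g.1 g.2)), inferInstance⟩
  let one : transporter k A z z := ⟨_, one_comp_orbitHom z⟩
  -- the map to the fibre of the stabiliser scheme
  have hlift : ∀ a : R ⊗[k] A, a ∈ Ideal.span (Set.range fun f : R => GLin.coactAlgHom k A R f - f ⊗ₜ[k] (1 : A)) →
      Algebra.TensorProduct.lift ((Algebra.ofId k D).comp z) (Ideal.Quotient.mkₐ k I) (fun _ _ => Commute.all _ _) a = 0 := by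
    intro a ha
    refine (Ideal.span_le (I := RingHom.ker _)).2 ?_ ha
    rintro _ ⟨f, rfl⟩
    rw [SetLike.mem_coe, RingHom.mem_ker, map_sub, sub_eq_zero]
    have h : ∀ x : R ⊗[k] A, Algebra.TensorProduct.lift ((Algebra.ofId k D).comp z) (Ideal.Quotient.mkₐ k I)
        (fun _ _ => Commute.all _ _) x = Ideal.Quotient.mkₐ k I (TensorProduct.lid k A (z.toLinearMap.rTensor A x)) := fun x => by
      induction x using TensorProduct.induction_on with
      | zero => simp
      | tmul p q => simp [D, Algebra.ofId_apply, Algebra.smul_def]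
      | add p q hp hq => simp only [map_add, hp, hq]
    rw [h, h, GLin.coactAlgHom_apply, ← GrothLib.Comodule.cfMap_apply, ← orbitHom_apply, LinearMap.rTensor_tmul,
      TensorProduct.lid_tmul]
    refine Ideal.Quotient.eq.2 (Ideal.subset_span ⟨f, ?_⟩)
    simp [Algebra.smul_def]
  let π : StabRing k A R →ₐ[k] D := Ideal.Quotient.liftₐ _ _ hlift
  have hπmk : ∀ (p : R) (a : A), π (Ideal.Quotient.mk _ (p ⊗ₜ[k] a)) =
      algebraMap k D (z p) * Ideal.Quotient.mk I a := fun _ _ => rfl
  have hπ : Function.Surjective π := fun d => by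
    obtain ⟨a, rfl⟩ := Ideal.Quotient.mk_surjective d
    exact ⟨Ideal.Quotient.mk _ ((1 : R) ⊗ₜ[k] a), by rw [hπmk]; simp⟩
  set q : PrimeSpectrum (StabRing k A R) := ⟨RingHom.ker (z.comp (stabSection k A R)), inferInstance⟩
  have hq : PrimeSpectrum.comap π.toRingHom (pt one) = q := by
    suffices h : (Ideal.Quotient.liftₐ I one.1 (hmem one.1 one.2)).comp π = z.comp (stabSection k A R) from
      PrimeSpectrum.ext (congrArg RingHom.ker h)
    refine AlgHom.ext fun s => ?_
    obtain ⟨s, rfl⟩ := Ideal.Quotient.mk_surjective s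
    induction s using TensorProduct.induction_on with
    | zero => simp only [map_zero]
    | tmul p a =>
      rw [AlgHom.comp_apply, AlgHom.comp_apply, hπmk, stabSection_mk, map_mul, map_mul, AlgHom.commutes, AlgHom.commutes]
      rfl
    | add a b ha hb => simp only [map_add, ha, hb]
  have hfib : ∀ P : PrimeSpectrum D,
      PrimeSpectrum.comap (algebraMap R (StabRing k A R)) (PrimeSpectrum.comap π.toRingHom P) =
        PrimeSpectrum.comap (algebraMap R (StabRing k A R)) q := by
    intro P
    haveI : ((P.asIdeal.comap π.toRingHom).comap (algebraMap R (StabRing k A R))).IsPrime := inferInstance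
    refine PrimeSpectrum.ext ?_
    have hle : RingHom.ker z ≤ (P.asIdeal.comap π.toRingHom).comap (algebraMap R (StabRing k A R)) := by
      intro f hf
      rw [Ideal.mem_comap, Ideal.mem_comap]
      have : π (algebraMap R (StabRing k A R) f) = 0 := by
        change π (Ideal.Quotient.mk _ (f ⊗ₜ[k] (1 : A))) = 0
        rw [hπmk, RingHom.mem_ker.1 hf, map_zero, zero_mul]
      change π (algebraMap R (StabRing k A R) f) ∈ P.asIdeal
      rw [this]; exact P.asIdeal.zero_mem
    have he : RingHom.ker z = (RingHom.ker (z.comp (stabSection k A R))).comap (algebraMap R (StabRing k A R)) := by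
      ext f
      change z f = 0 ↔ z (stabSection k A R (Ideal.Quotient.mk _ (f ⊗ₜ[k] (1 : A)))) = 0
      rw [stabSection_mk]; simp
    exact ((ker_isMaximal z).eq_of_le (Ideal.IsPrime.ne_top ‹_›) hle).symm.trans he
  -- the identity is an isolated point of the stabiliser
  have hone : IsOpen ({pt one} : Set (PrimeSpectrum D)) := by
    have h0 := (Algebra.quasiFiniteAt_iff_isOpen_singleton_fiber (R := R) q).1 ‹_›
    let F : PrimeSpectrum D → ↥(PrimeSpectrum.comap (algebraMap R (StabRing k A R)) ⁻¹'
        {PrimeSpectrum.comap (algebraMap R (StabRing k A R)) q}) :=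
      fun P => ⟨PrimeSpectrum.comap π.toRingHom P, hfib P⟩
    have hF : Continuous F := (PrimeSpectrum.continuous_comap π.toRingHom).subtype_mk hfib
    convert h0.preimage hF using 1
    ext P
    simp only [Set.mem_singleton_iff, Set.mem_preimage, F, Subtype.mk.injEq]
    exact ⟨fun e => e ▸ hq, fun e => PrimeSpectrum.comap_injective_of_surjective π.toRingHom hπ (e.trans hq.symm)⟩
  haveI : IsJacobsonRing D := isJacobsonRing_of_finiteType (A := k)
  haveI : IsNoetherianRing D := Algebra.FiniteType.isNoetherianRing k D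
  have hclopen : IsClopen ({pt one} : Set (PrimeSpectrum D)) :=
    ((PrimeSpectrum.isOpen_singleton_tfae_of_isNoetherian_of_isJacobsonRing (pt one)).out 0 1).1 hone
  -- translates of the identity are isolated
  have hopen : ∀ g : transporter k A z z, IsOpen ({pt g} : Set (PrimeSpectrum D)) := by
    intro g
    set g' : WithConv (A →ₐ[k] k) := (toConv g.1)⁻¹
    have hg' : g'.ofConv.comp φ[z] = z := by
      have e := comp_orbitHom_comp z g.1 g'.ofConv
      rw [show g.1.comp φ[z] = z from g.2, toConv_ofConv, mul_inv_cancel, one_comp_orbitHom] at e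
      exact e
    have hτ : ∀ f : R, GrothLib.Hopf.shift g' (φ[z] f) = φ[z] f := fun f => by
      have e : GrothLib.Hopf.shift g' (φ[z] f) = φ[g'.ofConv.comp φ[z]] f := by
        rw [orbitHom_apply (g'.ofConv.comp φ[z]), GrothLib.Comodule.cfMap_apply, GrothLib.Hopf.shift, AlgHom.convMul_def]
        simp only [ofConv_toConv, AlgHom.comp_apply, Bialgebra.comulAlgHom_apply, comul_orbitHom]
        induction Comod.coact (k := k) (A := A) f using TensorProduct.induction_on with
        | zero => simp
        | tmul p q => simp [Algebra.ofId_apply, Algebra.smul_def]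
        | add p q hp hq => simp only [map_add, hp, hq]
      rw [e, hg']
    have hτI : I ≤ I.comap (GrothLib.Hopf.shift g') := Ideal.span_le.2 <| by
      rintro _ ⟨f, rfl⟩
      rw [SetLike.mem_coe, Ideal.mem_comap, map_sub, hτ, AlgHom.commutes]
      exact Ideal.subset_span ⟨f, rfl⟩
    let τ : D →ₐ[k] D := Ideal.quotientMapₐ I (GrothLib.Hopf.shift g') hτI
    have hkey : ∀ u : transporter k A z z, PrimeSpectrum.comap τ.toRingHom (pt u) = pt one ↔ u = g := by
      intro u
      have hu : (Ideal.Quotient.liftₐ I u.1 (hmem u.1 u.2)).comp τ =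
          Ideal.Quotient.liftₐ I ((g' * toConv u.1).ofConv) (fun a ha =>
            (AlgHom.congr_fun (congrArg ofConv (GrothLib.Hopf.point_comp_shift g' (toConv u.1))) a).symm.trans
              (hmem u.1 u.2 _ (hτI ha))) :=
        Ideal.Quotient.algHom_ext k <| AlgHom.ext fun a =>
          AlgHom.congr_fun (congrArg ofConv (GrothLib.Hopf.point_comp_shift g' (toConv u.1))) a
      constructor
      · intro e
        have e1 : (Ideal.Quotient.liftₐ I u.1 (hmem u.1 u.2)).comp τ =
            Ideal.Quotient.liftₐ I one.1 (hmem one.1 one.2) :=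
          eq_of_ker_le fun a ha => (congrArg PrimeSpectrum.asIdeal e).le ha
        rw [hu] at e1
        have e2 : g' * toConv u.1 = 1 := by
          refine ofConv_injective (AlgHom.ext fun a => ?_)
          exact AlgHom.congr_fun e1 (Ideal.Quotient.mk I a)
        exact Subtype.ext (toConv_injective (inv_mul_eq_one.1 e2).symm)
      · rintro rfl
        refine PrimeSpectrum.ext ?_
        change RingHom.ker ((Ideal.Quotient.liftₐ I u.1 (hmem u.1 u.2)).comp τ) =
          RingHom.ker (Ideal.Quotient.liftₐ I one.1 (hmem one.1 one.2))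
        rw [hu]
        simp only [g', inv_mul_cancel]
        rfl
    suffices h : ({pt g} : Set (PrimeSpectrum D)) = PrimeSpectrum.comap τ.toRingHom ⁻¹' {pt one} by
      rw [h]; exact hone.preimage (PrimeSpectrum.continuous_comap _)
    refine Set.Subset.antisymm (Set.singleton_subset_iff.2 ((hkey g).2 rfl)) fun P hP => ?_
    have hU : IsClosed (PrimeSpectrum.comap τ.toRingHom ⁻¹' {pt one}) :=
      hclopen.isClosed.preimage (PrimeSpectrum.continuous_comap _)
    have hval : ∀ G : D →ₐ[k] k, (∀ a ∈ P.asIdeal, G a = 0) → ∃ u : transporter k A z z,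
        Ideal.Quotient.liftₐ I u.1 (hmem u.1 u.2) = G ∧ u = g := by
      intro G hG
      refine ⟨⟨G.comp (Ideal.Quotient.mkₐ k I), ?_⟩, Ideal.Quotient.algHom_ext k (AlgHom.ext fun a => rfl), ?_⟩
      · refine AlgHom.ext fun f => ?_
        have : Ideal.Quotient.mk I (φ[z] f) = algebraMap k D (z f) :=
          Ideal.Quotient.eq.2 (Ideal.subset_span ⟨f, rfl⟩)
        change G (Ideal.Quotient.mk I (φ[z] f)) = z f
        rw [this, AlgHom.commutes]; rfl
      · refine (hkey _).1 ?_
        refine hU.stableUnderSpecialization ((PrimeSpectrum.le_iff_specializes P _).1 ?_) hP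
        intro a ha
        change Ideal.Quotient.liftₐ I _ _ a = 0
        obtain ⟨a, rfl⟩ := Ideal.Quotient.mk_surjective a
        exact hG _ ha
    obtain ⟨G, hG⟩ := exists_eq_ker_of_finite (k := k) P.asIdeal
      ((Set.finite_singleton (Ideal.Quotient.liftₐ I g.1 (hmem g.1 g.2))).subset fun G hG => by
        obtain ⟨u, rfl, rfl⟩ := hval G hG; rfl)
    obtain ⟨u, rfl, rfl⟩ := hval G (fun a ha => by rwa [← hG] at ha)
    exact PrimeSpectrum.ext hG.symm
  -- so all points are isolated
  have hall : ∀ P : PrimeSpectrum D, ∃ g, pt g = P := by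
    intro P
    obtain ⟨M, hM, hPM⟩ := Ideal.exists_le_maximal P.asIdeal P.isPrime.ne_top
    obtain ⟨G, rfl⟩ := exists_ker_eq (k := k) M
    let g : transporter k A z z := ⟨G.comp (Ideal.Quotient.mkₐ k I), AlgHom.ext fun f => by
      have : Ideal.Quotient.mk I (φ[z] f) = algebraMap k D (z f) :=
        Ideal.Quotient.eq.2 (Ideal.subset_span ⟨f, rfl⟩)
      change G (Ideal.Quotient.mk I (φ[z] f)) = z f
      rw [this, AlgHom.commutes]; rfl⟩
    have hg : (pt g).asIdeal = RingHom.ker G :=
      congrArg RingHom.ker (Ideal.Quotient.algHom_ext k (AlgHom.ext fun _ => rfl) :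
        Ideal.Quotient.liftₐ I g.1 (hmem g.1 g.2) = G)
    exact ⟨g, ((hopen g).stableUnderGeneralization
      ((PrimeSpectrum.le_iff_specializes P (pt g)).1 (hPM.trans hg.ge)) rfl).symm⟩
  haveI : DiscreteTopology (PrimeSpectrum D) := discreteTopology_iff_isOpen_singleton.2 fun P => by
    obtain ⟨g, rfl⟩ := hall P
    exact hopen g
  haveI : Finite (PrimeSpectrum D) := finite_of_compact_of_discrete
  have hinj : Function.Injective pt := fun g g' e => Subtype.ext <| AlgHom.ext fun a =>
    AlgHom.congr_fun (eq_of_ker_le (z := Ideal.Quotient.liftₐ I g.1 (hmem g.1 g.2))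
      (w := Ideal.Quotient.liftₐ I g'.1 (hmem g'.1 g'.2)) fun b hb =>
        (congrArg PrimeSpectrum.asIdeal e).le hb) (Ideal.Quotient.mk I a)
  haveI := Finite.of_injective pt hinj
  exact Set.toFinite _

/-- A point with finite stabiliser has a basic neighbourhood of such points. -/
theorem exists_finite_stab_nhd (z : R →ₐ[k] k) (h : (transporter k A z z).Finite) :
    ∃ r : R, z r ≠ 0 ∧ ∀ z' : R →ₐ[k] k, z' r ≠ 0 → (transporter k A z' z').Finite := by
  haveI := quasiFiniteAt_of_finite_stab z h
  obtain ⟨s, hs, H⟩ := exists_quasiFiniteAt_nhd (B := R) (RingHom.ker (z.comp (stabSection k A R)))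
  refine ⟨stabSection k A R s, hs, fun z' hz' => ?_⟩
  haveI := H (RingHom.ker (z'.comp (stabSection k A R))) hz'
  exact finite_stab_of_quasiFiniteAt z'

end GrothLib.AffQuot
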