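import Groth.Agent.Lib.AffQuot.Invariants

/-!
# Stable points: finite stabilisers and closed orbits
-/

universe u

open TensorProduct HopfRep GLin GrothLib.Comodule WithConv

namespace GrothLib.AffQuot

variable {k : Type u} [Field k] [IsAlgClosed k] {A : Type u} [CommRing A] [HopfAlgebra k A]
  [Algebra.FiniteType k A]
  {R : Type u} [CommRing R] [Algebra k R] [Algebra.FiniteType k R] [Comod k A R] [IsCoactAlg k A R]

local notation "φ[" x "]" => GLin.orbitHom k A x

omit [IsAlgClosed k] [Algebra.FiniteType k A] [Algebra.FiniteType k R] in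
theorem transporter_finite {x : R →ₐ[k] k} (h : (transporter k A x x).Finite) (w : R →ₐ[k] k) :
    (transporter k A x w).Finite := by
  rcases (transporter k A x w).eq_empty_or_nonempty with he | ⟨g₀, hg₀⟩
  · rw [he]; exact Set.finite_empty
  refine Set.Finite.of_injOn (f := fun g => (toConv g * (toConv g₀)⁻¹).ofConv) (fun g hg => ?_) (fun a _ b _ hab => ?_) h
  · change (toConv g * (toConv g₀)⁻¹).ofConv.comp φ[x] = x
    have e1 := comp_orbitHom_comp x g ((toConv g₀)⁻¹).ofConv
    rw [show g.comp φ[x] = w from hg, toConv_ofConv] at e1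
    rw [← e1]
    obtain hg₀ : g₀.comp φ[x] = w := hg₀
    have e2 := comp_orbitHom_comp x g₀ ((toConv g₀)⁻¹).ofConv
    rw [hg₀, toConv_ofConv, mul_inv_cancel, one_comp_orbitHom] at e2
    exact e2
  · exact toConv_injective (mul_right_cancel (congrArg toConv hab))

/-- An orbit whose closure contains a closed orbit with finite stabilisers is that orbit. -/
theorem orb_of_stable {x y : R →ₐ[k] k} (hclosed : ∀ z, Cl k A x z → Orb k A x z)
    (hfin : (transporter k A x x).Finite) (h : Cl k A y x) : Orb k A x y := by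
  by_contra hne
  let B := R ⧸ RingHom.ker φ[y]
  let ψ : B →ₐ[k] A := Ideal.Quotient.liftₐ _ φ[x] fun f hf => h.ker_le hf
  let C := B ⧸ RingHom.ker ψ
  let ι : C →ₐ[k] A := Ideal.kerLiftAlg ψ
  -- dimension of the closed orbit
  have h1 : ringKrullDim A ≤ ringKrullDim C := by
    letI : Algebra C A := ι.toRingHom.toAlgebra
    haveI : IsScalarTower k C A := IsScalarTower.of_algebraMap_eq fun c => (ι.commutes c).symm
    haveI : Algebra.FiniteType C A := Algebra.FiniteType.of_restrictScalars_finiteType k _ _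
    refine ringKrullDim_le_of_finite_fibres (k := k) fun z => ?_
    refine (transporter_finite hfin (z.comp ((Ideal.Quotient.mkₐ k _).comp (Ideal.Quotient.mkₐ k _)))).subset
      fun g hg => ?_
    subst hg
    rfl
  have h2 : ringKrullDim B ≤ ringKrullDim A :=
    ringKrullDim_le_of_injective (k := k) (Ideal.kerLiftAlg φ[y]) (Ideal.kerLiftAlg_injective φ[y])
  -- no component of the bigger closure is in the smaller
  have h3 : ∀ p ∈ minimalPrimes B, ¬ RingHom.ker ψ ≤ p := by
    intro p hp hle
    haveI := hp.1.1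
    obtain ⟨f, hf, H⟩ := exists_open_orbit y hp
    obtain ⟨z', hz', hzf⟩ := exists_point_ne_zero (k := k) hf
    let z : R →ₐ[k] k := z'.comp (Ideal.Quotient.mkₐ k _)
    have hyz : Cl k A y z := fun a ha => by
      change z' (Ideal.Quotient.mk _ a) = 0
      rw [Ideal.Quotient.eq_zero_iff_mem.2 (RingHom.mem_ker.2 ha), map_zero]
    have hxz : Cl k A x z := fun a ha => hz' _ (hle (RingHom.mem_ker.2 ha))
    exact hne ((hclosed z hxz).trans (H z hyz hzf).symm)
  haveI : Nontrivial C :=
    ((Ideal.Quotient.liftₐ (RingHom.ker ψ)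
      (Ideal.Quotient.liftₐ (RingHom.ker φ[y]) x fun f hf => h f hf) fun f hf => by
      obtain ⟨f, rfl⟩ := Ideal.Quotient.mk_surjective f
      exact cl_refl x f hf) : C →ₐ[k] k).toRingHom.domain_nontrivial
  have hne' : RingHom.ker ψ ≠ ⊤ := Ideal.Quotient.nontrivial_iff.1 ‹Nontrivial C›
  haveI : Nontrivial B := (Ideal.Quotient.mk (RingHom.ker ψ)).domain_nontrivial
  have h4 : ringKrullDim C + 1 ≤ ringKrullDim B := by
    haveI : Nonempty (PrimeSpectrum.zeroLocus (R := B) (RingHom.ker ψ : Ideal B)) := by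
      rwa [Set.nonempty_coe_sort, Set.nonempty_iff_ne_empty, ne_eq, PrimeSpectrum.zeroLocus_empty_iff_eq_top]
    rw [ringKrullDim_quotient, Order.krullDim_eq_iSup_length, ringKrullDim, Order.krullDim_eq_iSup_length,
      ← WithBot.coe_one, ← WithBot.coe_add, ENat.iSup_add, WithBot.coe_le_coe, iSup_le_iff]
    intro l
    obtain ⟨p, hp, hp'⟩ := Ideal.exists_minimalPrimes_le (J := l.head.1.asIdeal) bot_le
    let p' : PrimeSpectrum B := ⟨p, hp.1.1⟩
    have hp'' : p' < l.head := lt_of_le_of_ne hp' fun e => h3 p hp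
      (show RingHom.ker ψ ≤ p'.asIdeal by rw [e]; exact l.head.2)
    refine le_trans ?_ (le_iSup _ ((l.map Subtype.val (fun _ _ => id)).cons p' hp''))
    simp
  obtain ⟨n, hn⟩ : ∃ n : ℕ, ringKrullDim A ≤ n := by
    obtain ⟨n, f, hf⟩ := Algebra.FiniteType.iff_quotient_mvPolynomial''.1 ‹Algebra.FiniteType k A›
    refine ⟨n, (ringKrullDim_le_of_surjective f.toRingHom hf).trans (le_of_eq ?_)⟩
    rw [MvPolynomial.ringKrullDim_of_isNoetherianRing, ringKrullDim_eq_zero_of_field, zero_add, Nat.card_fin]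
  have h5 := (add_le_add h1 (le_refl (1 : WithBot ℕ∞))).trans (h4.trans h2)
  have h6 : (⊥ : WithBot ℕ∞) < ringKrullDim A :=
    lt_of_lt_of_le (lt_of_lt_of_le (WithBot.bot_lt_coe (0 : ℕ∞)) ringKrullDim_nonneg_of_nontrivial) h2
  revert h5 hn h6
  generalize ringKrullDim A = d
  intro hn h5 h6
  induction d using WithBot.recBotCoe with
  | bot => exact lt_irrefl _ h6
  | coe d =>
    induction d using WithTop.recTopCoe with
    | top => exact absurd hn (not_le.2 (WithBot.coe_lt_coe.2 (ENat.natCast_lt_top n)))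
    | coe d =>
      have : (d : ℕ∞) + 1 ≤ d := WithBot.coe_le_coe.1 h5
      exact absurd (show d + 1 ≤ d by exact_mod_cast this) (by omega)

/-- All points with the invariants of a stable point are in its orbit. -/
theorem orb_of_invariants_eq (hG : IsLinearlyReductive k A) {x y : R →ₐ[k] k}
    (hclosed : ∀ z, Cl k A x z → Orb k A x z) (hfin : (transporter k A x x).Finite)
    (h : ∀ f ∈ fixedPts k A R, y f = x f) : Orb k A x y :=
  orb_of_stable hclosed hfin (cl_of_closed hG hclosed h)

/-- Stability is finiteness of the stabilisers along the fibre of the quotient. -/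
theorem stable_iff (hG : IsLinearlyReductive k A) (x : R →ₐ[k] k) :
    ((∀ z, Cl k A x z → Orb k A x z) ∧ (transporter k A x x).Finite) ↔
      ∀ z : R →ₐ[k] k, (∀ f ∈ fixedPts k A R, z f = x f) → (transporter k A z z).Finite := by
  refine ⟨fun ⟨hc, hf⟩ z hz => (transporter_finite_iff (orb_of_invariants_eq hG hc hf hz)).2 hf, fun H => ?_⟩
  obtain ⟨y, hxy, hy⟩ := exists_closed_orbit (A := A) x
  have ho : Orb k A y x :=
    orb_of_stable hy (H y fun f hf => hxy.invariant hf) hxy
  exact ⟨fun z hz => ho.symm.trans (hy z (ho.cl.trans hz)), H x fun _ _ => rfl⟩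

end GrothLib.AffQuot

namespace GrothLib.AffQuot

variable {k : Type u} [Field k] [IsAlgClosed k] {A : Type u} [CommRing A] [HopfAlgebra k A]
  [Algebra.FiniteType k A]
  {R : Type u} [CommRing R] [Algebra k R] [Algebra.FiniteType k R] [Comod k A R] [IsCoactAlg k A R]

omit [IsAlgClosed k] [Algebra.FiniteType k A] [Algebra.FiniteType k R] in
theorem transporter_eq (x : R →ₐ[k] k) :
    transporter k A x x = {g : A →ₐ[k] k | ∀ f : R, x (Comod.act k A R g f) = x f} := by
  ext g
  exact ⟨fun h f => by rw [← apply_orbitHom]; exact AlgHom.congr_fun h f,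
    fun h => AlgHom.ext fun f => by rw [AlgHom.comp_apply, apply_orbitHom]; exact h f⟩

theorem closed_iff (x : R →ₐ[k] k) :
    (∀ z, Cl k A x z → Orb k A x z) ↔ ∀ z : R →ₐ[k] k,
      (∀ f : R, (∀ g : A →ₐ[k] k, x (Comod.act k A R g f) = 0) → z f = 0) →
        ∃ g : A →ₐ[k] k, ∀ f : R, z f = x (Comod.act k A R g f) := by
  simp only [cl_iff, orb_iff]

end GrothLib.AffQuot
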