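import Groth.Agent.Lib.AffQuot.StabOpen

/-!
# The stable locus is cut out by invariants
-/

universe u

open TensorProduct HopfRep GLin GrothLib.Comodule

namespace GrothLib.AffQuot

variable {k : Type u} [Field k] [IsAlgClosed k] {A : Type u} [CommRing A] [HopfAlgebra k A]
  [Algebra.FiniteType k A]
  {R : Type u} [CommRing R] [Algebra k R] [Algebra.FiniteType k R] [Comod k A R] [IsCoactAlg k A R]

local notation "φ[" x "]" => GLin.orbitHom k A x

variable (k A R) in
/-- The functions vanishing on the orbits with infinite stabilisers. -/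
noncomputable def infStabIdeal : Ideal R :=
  ⨅ z : {z : R →ₐ[k] k // ¬ (transporter k A z z).Finite}, RingHom.ker φ[z.1]

omit [IsAlgClosed k] [Algebra.FiniteType k A] [Algebra.FiniteType k R] in
theorem isSubcomod_infStabIdeal :
    IsSubcomod (k := k) (A := A) ((infStabIdeal k A R).restrictScalars k) := by
  refine isSubcomod_iff_op.2 fun f u hu => ?_
  simp only [infStabIdeal, Submodule.restrictScalars_mem, Submodule.mem_iInf] at hu ⊢
  exact fun z => isSubcomod_iff_op.1
    (GrothLib.Comodule.IsComodHom.ker_isSubcomod (isComodHom_orbitHom z.1)) f u (hu z)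

/-- The finite stabiliser locus is the complement of the zero set of this stable ideal. -/
theorem finite_stab_iff (x : R →ₐ[k] k) :
    (transporter k A x x).Finite ↔ ∃ f ∈ infStabIdeal k A R, x f ≠ 0 := by
  constructor
  · intro h
    obtain ⟨r, hr, H⟩ := exists_finite_stab_nhd x h
    haveI : IsNoetherianRing A := Algebra.FiniteType.isNoetherianRing k A
    obtain ⟨N, hN⟩ := IsNoetherianRing.isNilpotent_nilradical A
    refine ⟨r ^ N, ?_, by rw [map_pow]; exact pow_ne_zero _ hr⟩
    simp only [infStabIdeal, Submodule.mem_iInf]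
    intro z
    have hnil : φ[z.1] r ∈ nilradical A := mem_nilradical.2 <| isNilpotent_of_forall (k := k) fun g => by
      by_contra hg
      exact z.2 ((transporter_finite_iff (⟨g, rfl⟩ : Orb k A z.1 (g.comp φ[z.1]))).1 (H _ hg))
    have := Ideal.pow_mem_pow hnil N
    rw [hN, Submodule.zero_eq_bot, Ideal.mem_bot, ← map_pow] at this
    exact this
  · rintro ⟨f, hf, hxf⟩
    by_contra h
    simp only [infStabIdeal, Submodule.mem_iInf] at hf
    exact hxf (cl_refl x f (hf ⟨x, h⟩))

/-- Stable points are those off the common zeros of the invariants in this ideal. -/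
theorem stable_iff_exists_invariant (hG : IsLinearlyReductive k A) (x : R →ₐ[k] k) :
    ((∀ z, Cl k A x z → Orb k A x z) ∧ (transporter k A x x).Finite) ↔
      ∃ f ∈ fixedPts k A R, f ∈ infStabIdeal k A R ∧ x f ≠ 0 := by
  rw [stable_iff hG]
  constructor
  · intro H
    by_contra hne
    push Not at hne
    obtain ⟨z, hz, hz'⟩ := exists_lift hG (infStabIdeal k A R) isSubcomod_infStabIdeal
      (x.comp (invariants k A R).val) (fun f hf => hne f f.2 hf)
    obtain ⟨f, hf, hzf⟩ := (finite_stab_iff z).1 (H z fun f hf => hz' ⟨f, hf⟩)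
    exact hzf (hz f hf)
  · rintro ⟨f, hf, hfJ, hxf⟩ z hz
    exact (finite_stab_iff z).2 ⟨f, hfJ, by rwa [hz f hf]⟩

/-- Invariant functions killing a stable point's complement: a stable ideal not contained in the kernel of a
stable point contains an invariant which is nonzero there. -/
theorem exists_invariant_ne_zero (hG : IsLinearlyReductive k A) {x : R →ₐ[k] k}
    (hc : ∀ z, Cl k A x z → Orb k A x z) (hfin : (transporter k A x x).Finite)
    (D : Ideal R) (hD : IsSubcomod (k := k) (A := A) (D.restrictScalars k)) {b : R} (hb : b ∈ D)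
    (hxb : x b ≠ 0) : ∃ d ∈ fixedPts k A R, d ∈ D ∧ x d ≠ 0 := by
  by_contra hne
  push Not at hne
  obtain ⟨z, hz, hz'⟩ := exists_lift hG D hD (x.comp (invariants k A R).val) (fun f hf => hne f f.2 hf)
  obtain ⟨g, hg⟩ := (orb_of_invariants_eq hG hc hfin fun f hf => hz' ⟨f, hf⟩).symm
  obtain ⟨w, hw⟩ := hD b hb
  have : φ[z] b = 0 := by
    rw [orbitHom_apply, cfMap_apply, ← hw, ← LinearMap.rTensor_comp_apply,
      show z.toLinearMap ∘ₗ (D.restrictScalars k).subtype = 0 from LinearMap.ext fun a => hz a a.2,
      LinearMap.rTensor_zero, LinearMap.zero_apply, map_zero]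
  exact hxb (by rw [← hg, AlgHom.comp_apply, this, map_zero])

end GrothLib.AffQuot
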